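import Mathlib

/-!
The Netto triple system on `ZMod p` has no automorphism exchanging the first two points of every triangle and
fixing the third.
-/

set_option autoImplicit false

namespace CfsgLib.Recog.EvenOverPSL

variable {p : ℕ} [Fact p.Prime]

/-- The third point of the Netto system with parameter `c`. -/
noncomputable def nettoT (c a b : ZMod p) : ZMod p :=
  open scoped Classical in if IsSquare (b - a) then a - c * (b - a) else b + c * (b - a)

theorem nettoT_sq {c a b : ZMod p} (d : ZMod p) (hd : b - a = d) (h : IsSquare d) :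
    nettoT c a b = a - c * d := by rw [nettoT, hd, if_pos h]

theorem nettoT_nsq {c a b : ZMod p} (d : ZMod p) (hd : b - a = d) (h : ¬ IsSquare d) :
    nettoT c a b = b + c * d := by rw [nettoT, hd, if_neg h]

theorem natCast_ne_zero_of_lt {n : ℕ} (h0 : 0 < n) (h : n < p) : (n : ZMod p) ≠ 0 := by
  rw [Ne, ZMod.natCast_eq_zero_iff]
  exact fun hd => absurd (Nat.le_of_dvd h0 hd) (by omega)

theorem isSquare_neg_iff (hneg : ¬ IsSquare (-1 : ZMod p)) {a : ZMod p} (ha : a ≠ 0) :
    IsSquare (-a) ↔ ¬ IsSquare a := by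
  have h1 : quadraticChar (ZMod p) (-1) = -1 := quadraticChar_neg_one_iff_not_isSquare.2 hneg
  rw [← quadraticChar_one_iff_isSquare (neg_ne_zero.2 ha), show -a = -1 * a by ring, map_mul, h1,
    ← quadraticChar_neg_one_iff_not_isSquare]
  omega

theorem isSquare_mul_iff_left {a b : ZMod p} (ha : IsSquare a) (ha0 : a ≠ 0) :
    IsSquare (a * b) ↔ IsSquare b := by
  refine ⟨fun h => ?_, fun h => ha.mul h⟩
  have := ha.inv.mul h
  rwa [← mul_assoc, inv_mul_cancel₀ ha0, one_mul] at this

theorem not_exchange (hp : 7 < p) {c : ZMod p} (hc : c ^ 2 + c + 1 = 0) (hcs : IsSquare c)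
    (hneg : ¬ IsSquare (-1 : ZMod p))
    (hex : ∀ y, y ≠ 0 → y ≠ 1 → y ≠ -c → ∃ σ : ZMod p → ZMod p,
      σ 0 = 1 ∧ σ 1 = 0 ∧ σ y = y ∧ Function.Injective σ ∧
      ∀ u v, σ (nettoT c u v) = nettoT c (σ u) (σ v)) : False := by
  classical
  have h2 : (2 : ZMod p) ≠ 0 := by exact_mod_cast natCast_ne_zero_of_lt (n := 2) (by omega) (by omega)
  have h3 : (3 : ZMod p) ≠ 0 := by exact_mod_cast natCast_ne_zero_of_lt (n := 3) (by omega) (by omega)
  have h7 : (7 : ZMod p) ≠ 0 := by exact_mod_cast natCast_ne_zero_of_lt (n := 7) (by omega) hp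
  have hc0 : c ≠ 0 := by
    rintro rfl
    simp at hc
  have hc1 : c ≠ 1 := by
    rintro rfl
    exact h3 (by linear_combination hc)
  have hc3 : c ^ 3 = 1 := by linear_combination (c - 1) * hc
  have hab : nettoT c 0 1 = -c := by rw [nettoT_sq 1 (by ring) IsSquare.one]; ring
  have hba : nettoT c 1 0 = -c := by rw [nettoT_nsq (-1) (by ring) hneg]; ring
  have hc2 : IsSquare (c ^ 2) := IsSquare.sq c
  by_cases hs2 : IsSquare (2 : ZMod p)
  · obtain ⟨σ, s0, s1, sy, -, heq⟩ := hex c hc0 hc1 (fun h => by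
      have : (2 : ZMod p) * c = 0 := by linear_combination h
      exact (mul_ne_zero h2 hc0) this)
    have he : nettoT c (nettoT c 0 1) c = nettoT c (nettoT c 0 c) 1 := by
      have e1 : nettoT c 0 c = -c ^ 2 := by rw [nettoT_sq c (by ring) hcs]; ring
      rw [hab, e1, nettoT_sq (2 * c) (by ring) (hs2.mul hcs),
        nettoT_nsq (-c) (by linear_combination hc) (fun h => (isSquare_neg_iff hneg hc0).1 h hcs)]
      linear_combination -hc
    have he' := congrArg σ he
    simp only [heq, s0, s1, sy] at he'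
    rw [hba, nettoT_sq (a := -c) (b := c) (2 * c) (by ring) (hs2.mul hcs)] at he'
    by_cases hd : IsSquare (c - 1)
    · have e1 : nettoT c 1 c = -(2 * c ^ 2) := by
        rw [nettoT_sq (c - 1) rfl hd]; linear_combination hc
      rw [e1, nettoT_sq (2 * c ^ 2) (by ring) (hs2.mul hc2)] at he'
      have h4 : c = 2 := by linear_combination -he' + 2 * hc3
      exact h7 (by linear_combination -(c ^ 2 + 2 * c + 4) * h4 + hc3)
    · have e1 : nettoT c 1 c = c ^ 2 := by rw [nettoT_nsq (c - 1) rfl hd]; ring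
      rw [e1, nettoT_nsq (-c ^ 2) (by ring)
        (fun h => (isSquare_neg_iff hneg (pow_ne_zero 2 hc0)).1 h hc2)] at he'
      have h4 : c ^ 2 = 2 := by linear_combination -he' - hc + hc3
      exact h7 (by linear_combination -(c ^ 4 + 2 * c ^ 2 + 4) * h4 + (c ^ 3 + 1) * hc3)
  · obtain ⟨σ, s0, s1, sy, -, heq⟩ := hex (1 - c) (sub_ne_zero.2 hc1.symm)
      (fun h => hc0 (by linear_combination -h)) (fun h => one_ne_zero (α := ZMod p) (by linear_combination h))
    have hn2 : IsSquare (-2 : ZMod p) := (isSquare_neg_iff hneg h2).2 hs2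
    have he : nettoT c (nettoT c (nettoT c 0 1) (1 - c)) 1 = nettoT c (nettoT c (nettoT c 0 (1 - c)) 1) (1 - c) := by
      rw [hab, nettoT_sq (a := -c) (b := 1 - c) 1 (by ring) IsSquare.one]
      by_cases hd : IsSquare (1 - c)
      · have e1 : nettoT c 0 (1 - c) = c ^ 2 - c := by rw [nettoT_sq (1 - c) (by ring) hd]; ring
        rw [e1, nettoT_sq (a := c ^ 2 - c) (b := 1) (-2 * c ^ 2) (by linear_combination hc) (hn2.mul hc2),
          nettoT_sq (a := -c - c * 1) (b := 1) (c * (1 - c)) (by linear_combination hc) (hcs.mul hd),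
          nettoT_sq (b := 1 - c) c (by linear_combination -hc - 2 * hc3) hcs]
        linear_combination -hc3 - hc
      · have hcd : ¬ IsSquare (c * (1 - c)) := fun h => hd ((isSquare_mul_iff_left hcs hc0).1 h)
        have e1 : nettoT c 0 (1 - c) = 1 - c ^ 2 := by rw [nettoT_nsq (1 - c) (by ring) hd]; ring
        rw [e1, nettoT_nsq (a := -c - c * 1) (b := 1) (c * (1 - c)) (by linear_combination hc) hcd,
          nettoT_sq (a := 1 - c ^ 2) (b := 1) (c ^ 2) (by ring) hc2,
          nettoT_sq (b := 1 - c) (-2 * c) (by linear_combination hc3 + hc) (hn2.mul hcs)]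
        ring
    have he' := congrArg σ he
    simp only [heq, s0, s1, sy] at he'
    have hn : ¬ IsSquare (-c) := fun h => (isSquare_neg_iff hneg hc0).1 h hcs
    have hn2c : ¬ IsSquare (2 * c) := fun h => hs2 ((isSquare_mul_iff_left hcs hc0).1 (by rwa [mul_comm]))
    rw [hba, nettoT_sq (a := -c) (b := 1 - c) 1 (by ring) IsSquare.one,
      nettoT_nsq (a := -c - c * 1) (b := 0) (2 * c) (by ring) hn2c,
      nettoT_nsq (a := 1) (b := 1 - c) (-c) (by ring) hn,
      nettoT_sq (a := 1 - c + c * -c) (b := 0) (-2) (by linear_combination hc) hn2] at he'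
    by_cases hd : IsSquare (-1 - 3 * c)
    · rw [nettoT_sq (-1 - 3 * c) (by linear_combination hc) hd] at he'
      have h4 : 2 * c ^ 2 = -1 := by linear_combination he' + 2 * hc
      exact (mul_ne_zero h3 h3) (by linear_combination (4 * c ^ 4 - 2 * c ^ 2 + 1) * h4 - 8 * (c ^ 3 + 1) * hc3)
    · rw [nettoT_nsq (-1 - 3 * c) (by linear_combination hc) hd] at he'
      have h4 : 3 * c = -6 := by linear_combination -he' + 5 * hc
      have h5 : c = -2 := mul_left_cancel₀ h3 (by linear_combination h4)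
      exact (mul_ne_zero h3 h3) (by linear_combination (c ^ 2 - 2 * c + 4) * h5 - hc3)

end CfsgLib.Recog.EvenOverPSL
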