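import Cfsg.Agent.Lib.Recog.EvenOverPSL.Triples
import Cfsg.Agent.Lib.Recog.EvenOverPSL.Netto

/-!
The stabiliser of infinity is triply transitive: the case of a block of the stabiliser of `{0, ∞}` leads to
the Netto triple system, which is impossible.
-/

set_option autoImplicit false

open Equiv
open scoped Classical

namespace CfsgLib.Recog.EvenOverPSL

variable {p : ℕ} [Fact p.Prime]

/-- The map `x ↦ -1/x` of the field, fixing zero. -/
def negInvPerm : Perm (ZMod p) :=
  (show Function.Involutive (fun x : ZMod p => -x⁻¹) from fun x => by simp [inv_neg]).toPerm _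

@[simp] theorem negInvPerm_apply (x : ZMod p) : negInvPerm x = -x⁻¹ := rfl

theorem negInvPerm_mul_self : (negInvPerm (p := p)) * negInvPerm = 1 := by
  ext x; simp [inv_neg]

variable {H : Subgroup (Perm (Option (ZMod p)))}

theorem LineHyp.conj_negInv (hH : LineHyp H) {σ : Perm (ZMod p)} (hσ : σ ∈ infStab H) (h0 : σ 0 = 0) :
    negInvPerm * σ * negInvPerm ∈ infStab H := by
  obtain ⟨τ, hτ, he⟩ := hH.invStable σ hσ h0
  convert hτ using 1
  ext x
  simp [he]

/-- The permutations of the field induced by the stabiliser of `{0, ∞}`. -/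
def pairStab (hH : LineHyp H) : Subgroup (Perm (ZMod p)) where
  carrier := {σ | σ 0 = 0 ∧ (σ ∈ infStab H ∨ negInvPerm * σ ∈ infStab H)}
  one_mem' := ⟨rfl, Or.inl (one_mem _)⟩
  mul_mem' := by
    rintro a b ⟨ha0, ha⟩ ⟨hb0, hb⟩
    refine ⟨by simp [ha0, hb0], ?_⟩
    rcases ha with ha | ha <;> rcases hb with hb | hb
    · exact Or.inl (mul_mem ha hb)
    · refine Or.inr ?_
      have h := mul_mem (hH.conj_negInv ha ha0) hb
      rw [show negInvPerm * a * negInvPerm * (negInvPerm * b) = negInvPerm * a * (negInvPerm * negInvPerm) * b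
        by group, negInvPerm_mul_self, mul_one] at h
      rwa [← mul_assoc]
    · refine Or.inr ?_
      rw [← mul_assoc]
      exact mul_mem ha hb
    · refine Or.inl ?_
      have h := mul_mem (hH.conj_negInv ha (by simp [ha0])) hb
      rw [show negInvPerm * (negInvPerm * a) * negInvPerm * (negInvPerm * b) =
        negInvPerm * negInvPerm * a * (negInvPerm * negInvPerm) * b by group, negInvPerm_mul_self, one_mul,
        mul_one] at h
      exact h
  inv_mem' := by
    rintro a ⟨ha0, ha⟩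
    refine ⟨Perm.inv_eq_iff_eq.2 ha0.symm, ?_⟩
    rcases ha with ha | ha
    · exact Or.inl (inv_mem ha)
    · refine Or.inr ?_
      have h := hH.conj_negInv (inv_mem ha) (Perm.inv_eq_iff_eq.2 (by simp [ha0]))
      rw [mul_inv_rev, show negInvPerm * (a⁻¹ * negInvPerm⁻¹) * negInvPerm =
        negInvPerm * a⁻¹ by group] at h
      exact h

theorem LineHyp.pairStab_scale (hH : LineHyp H) {a : ZMod p} (ha : a ≠ 0) :
    ∃ g ∈ pairStab hH, ∀ x, g x = a * a * x := by
  obtain ⟨σ, hσ, hs⟩ := hH.scale_add ha 0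
  exact ⟨σ, ⟨by simp [hs], Or.inl hσ⟩, fun x => by simp [hs]⟩

theorem LineHyp.pairStab_inv (hH : LineHyp H) : ∃ g ∈ pairStab hH, ∀ x, g x = -x⁻¹ :=
  ⟨negInvPerm, ⟨by simp, Or.inr (by rw [negInvPerm_mul_self]; exact one_mem _)⟩, fun _ => rfl⟩

theorem LineHyp.mem_pairStab_of (hH : LineHyp H) {σ : Perm (ZMod p)} (hσ : σ ∈ infStab H) (h0 : σ 0 = 0) :
    σ ∈ pairStab hH := ⟨h0, Or.inl hσ⟩

/-- The exchange of two of the points `∞, 0, 1` preserves every orbit on the further points. -/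
theorem LineHyp.reach_exchange (hH : LineHyp H) (hp : 3 < p) (hneg : ¬ IsSquare (-1 : ZMod p))
    {κ : Perm (ZMod p)} (hκ : κ ∈ infStab H) (k0 : κ 0 = 1) (k1 : κ 1 = 0) {z : ZMod p} (z0 : z ≠ 0)
    (z1 : z ≠ 1) : Reach H z 0 1 (κ z) := by
  have h : Reach H z 1 0 (κ z) := ⟨κ, hκ, k0, k1, rfl⟩
  exact (hH.reach_swap hp hneg z0 z1 one_ne_zero (κ z)).1 h

theorem LineHyp.reach_pairStab (hH : LineHyp H) (hp : 3 < p) (hneg : ¬ IsSquare (-1 : ZMod p))
    {g : Perm (ZMod p)} (hg : g ∈ pairStab hH) (g1 : g 1 = 1) {z : ZMod p} (z0 : z ≠ 0) (z1 : z ≠ 1) :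
    Reach H z 0 1 (g z) := by
  obtain ⟨g0, hg | hg⟩ := hg
  · exact ⟨g, hg, g0, g1, rfl⟩
  set t := negInvPerm * g with ht
  have t0 : t 0 = 0 := by simp [ht, g0]
  have t1 : t 1 = -1 := by simp [ht, g1]
  set G : Perm (Option (ZMod p)) := lineInv * extendHom t with hG
  have hGm : G ∈ H := H.mul_mem hH.inv hg
  set m : Perm (Option (ZMod p)) := extendHom (Equiv.addRight 1) * lineInv with hm
  have hmm : m ∈ H := H.mul_mem (hH.trans 1) hH.inv
  have mn : m none = some 1 := by simp [hm]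
  have m0 : m (some 0) = none := by simp [hm]
  have m1 : m (some 1) = some 0 := by simp [hm, lineInv_some]
  have Gn : G none = some 0 := by simp [hG]
  have G0 : G (some 0) = none := by simp [hG, t0]
  have G1 : G (some 1) = some 1 := by simp [hG, t1, lineInv_some]
  have Gz : G (some z) = some (g z) := by
    have hgz : g z ≠ 0 := fun h => z0 (g.injective (h.trans g0.symm))
    have : t z ≠ 0 := by simp [ht, hgz]
    have h2 : -(g z)⁻¹ ≠ 0 := by simp [hgz]
    simp [hG, ht, lineInv_some h2, inv_neg]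
  have inv_of : ∀ {a b}, m a = b → m⁻¹ b = a := fun h => Perm.inv_eq_iff_eq.2 h.symm
  obtain ⟨κ, hκ, hκe⟩ := exists_infStab (H.mul_mem (H.mul_mem (H.inv_mem hmm) hGm) hmm)
    (show (m⁻¹ * G * m) none = none by simp only [Perm.mul_apply, mn, G1]; exact inv_of mn)
  have k0 : κ 0 = 1 := Option.some_injective _ (by
    rw [← extendHom_some, ← hκe]; simp only [Perm.mul_apply, m0, Gn]; exact inv_of m1)
  have k1 : κ 1 = 0 := Option.some_injective _ (by
    rw [← extendHom_some, ← hκe]; simp only [Perm.mul_apply, m1, G0]; exact inv_of m0)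
  obtain ⟨z', hz'⟩ : ∃ z', m (some z') = some z := by
    rcases h : m⁻¹ (some z) with _ | z'
    · have := congrArg m h
      rw [mn, show m (m⁻¹ (some z)) = some z from m.apply_symm_apply _] at this
      exact absurd (Option.some_injective _ this) z1
    · exact ⟨z', by rw [← h]; exact m.apply_symm_apply _⟩
  have z'0 : z' ≠ 0 := by rintro rfl; rw [m0] at hz'; simp at hz'
  have z'1 : z' ≠ 1 := by rintro rfl; rw [m1] at hz'; exact z0 (Option.some_injective _ hz').symm
  obtain ⟨w, hw, w0, w1, hwz⟩ := hH.reach_exchange hp hneg hκ k0 k1 z'0 z'1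
  obtain ⟨v, hv, hve⟩ := exists_infStab (H.mul_mem (H.mul_mem hmm hw) (H.inv_mem hmm))
    (show (m * extendHom w * m⁻¹) none = none by
      simp only [Perm.mul_apply, inv_of m0, extendHom_some, w0, m0])
  refine ⟨v, hv, ?_, ?_, ?_⟩ <;> apply Option.some_injective <;> rw [← extendHom_some, ← hve]
  · simp only [Perm.mul_apply, inv_of m1, extendHom_some, w1, m1]
  · simp only [Perm.mul_apply, inv_of mn, extendHom_none, mn]
  · simp only [Perm.mul_apply, inv_of hz', extendHom_some, hwz]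
    rw [← extendHom_some κ z', ← hκe]
    simp only [Perm.mul_apply, hz', Gz]
    exact m.apply_symm_apply _

/-- A block of the stabiliser of `{0, ∞}` is impossible. -/
theorem LineHyp.no_block (hH : LineHyp H) (hp : 7 < p) (hneg : ¬ IsSquare (-1 : ZMod p))
    {B : Set (ZMod p)} (hB1 : 1 ∈ B) (hB0 : 0 ∉ B) (hBne : ∃ b ∈ B, b ≠ 1)
    (hBp : ∃ z, z ≠ 0 ∧ z ∉ B)
    (hblock : ∀ g ∈ pairStab hH, (∃ b ∈ B, g b ∈ B) → ∀ b ∈ B, g b ∈ B) : False := by
  have hp3 : 3 < p := by omega
  obtain ⟨κ, hκ, k0, k1⟩ := hH.two_trans hp3 zero_ne_one (one_ne_zero (α := ZMod p))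
  set Bf : Finset (ZMod p) := Finset.univ.filter (fun b => b ∈ B) with hBf
  set A : Finset (ZMod p) := Bf.erase 1 with hA
  have memA : ∀ a, a ∈ A ↔ a ≠ 1 ∧ a ∈ B := fun a => by simp [hA, hBf]
  have fixA : ∀ w ∈ infStab H, w 0 = 0 → w 1 = 1 → ∀ a ∈ A, w a ∈ A := by
    intro w hw w0 w1 a ha
    obtain ⟨a1, aB⟩ := (memA a).1 ha
    refine (memA _).2 ⟨fun h => a1 (w.injective (h.trans w1.symm)), ?_⟩
    exact hblock w (hH.mem_pairStab_of hw w0) ⟨1, hB1, by rw [w1]; exact hB1⟩ a aB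
  have ne0 : ∀ a ∈ A, a ≠ 0 := fun a ha h => hB0 (h ▸ ((memA a).1 ha).2)
  have hκA : ∀ a ∈ A, κ a ∈ A := by
    intro a ha
    obtain ⟨w, hw, w0, w1, hwa⟩ := hH.reach_exchange hp3 hneg hκ k0 k1 (ne0 a ha) ((memA a).1 ha).1
    rw [← hwa]
    exact fixA w hw w0 w1 a ha
  have hψA : ∀ a ∈ A, (1 - a)⁻¹ ∈ A := by
    intro a' ha'
    obtain ⟨a, ha, rfl⟩ : ∃ a ∈ A, κ a = a' :=
      ⟨_, (Finset.mem_image.1 (by
        rw [Finset.eq_of_subset_of_card_le (s := A.image κ) (t := A) (Finset.image_subset_iff.2 hκA)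
          (by rw [Finset.card_image_of_injective _ κ.injective])]
        exact ha')).choose_spec⟩
    obtain ⟨n, hn, hne⟩ := hH.pairStab_inv
    set σ := n * (Equiv.addRight (-1) * κ) with hσ
    have hσm : σ ∈ pairStab hH := mul_mem hn (hH.mem_pairStab_of (mul_mem (hH.trans _) hκ) (by simp [k0]))
    have s1 : σ 1 = 1 := by simp [hσ, k1, hne]
    have := hblock σ hσm ⟨1, hB1, by rw [s1]; exact hB1⟩ a ((memA a).1 ha).2
    have hs : σ a = (1 - κ a)⁻¹ := by
      simp only [hσ, Perm.mul_apply, Equiv.coe_addRight, hne]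
      rw [← inv_neg]; congr 1; ring
    refine (memA _).2 ⟨?_, hs ▸ this⟩
    intro h
    rw [inv_eq_one, sub_eq_self] at h
    exact ne0 _ (hκA a ha) h
  have hψinj : Set.InjOn (fun a : ZMod p => (1 - a)⁻¹) (A : Set (ZMod p)) := fun a _ b _ h => by
    simpa using h
  have hψimg : A.image (fun a : ZMod p => (1 - a)⁻¹) = A :=
    Finset.eq_of_subset_of_card_le (Finset.image_subset_iff.2 hψA) (by rw [Finset.card_image_of_injOn hψinj])
  have hsum : ∑ a ∈ A, a⁻¹ = ∑ a ∈ A, (1 - a) := by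
    conv_lhs => rw [← hψimg, Finset.sum_image hψinj]
    simp
  -- two members of `B` in one square class
  by_cases hsame : ∃ b₁ ∈ B, ∃ b₂ ∈ B, b₁ ≠ b₂ ∧ IsSquare (b₂ * b₁⁻¹)
  · obtain ⟨b₁, hb₁, b₂, hb₂, hne, e, he⟩ := hsame
    have hb10 : b₁ ≠ 0 := fun h => hB0 (h ▸ hb₁)
    have hb20 : b₂ ≠ 0 := fun h => hB0 (h ▸ hb₂)
    have he0 : e ≠ 0 := by
      rintro rfl
      exact mul_ne_zero hb20 (inv_ne_zero hb10) (by simpa using he)
    have ht1 : e * e ≠ 1 := fun h => hne (by
      rw [← he, ← div_eq_mul_inv, div_eq_one_iff_eq hb10] at h; exact h.symm)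
    obtain ⟨g, hg, hge⟩ := hH.pairStab_scale he0
    have hgB : ∀ b ∈ Bf, g b ∈ Bf := fun b hb => by
      simp only [hBf, Finset.mem_filter, Finset.mem_univ, true_and] at hb ⊢
      exact hblock g hg ⟨b₁, hb₁, by rw [hge, ← he, inv_mul_cancel_right₀ hb10]; exact hb₂⟩ b hb
    have himg : Bf.image g = Bf :=
      Finset.eq_of_subset_of_card_le (Finset.image_subset_iff.2 hgB)
        (by rw [Finset.card_image_of_injective _ g.injective])
    have h1 : ∑ b ∈ Bf, b = 0 := by
      have h : ∑ b ∈ Bf, b = e * e * ∑ b ∈ Bf, b := by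
        conv_lhs => rw [← himg, Finset.sum_image g.injective.injOn]
        rw [Finset.mul_sum]
        exact Finset.sum_congr rfl fun b _ => hge b
      exact (mul_eq_zero.1 (show (e * e - 1) * ∑ b ∈ Bf, b = 0 by linear_combination -h)).resolve_left
        (sub_ne_zero.2 ht1)
    have h2 : ∑ b ∈ Bf, b⁻¹ = 0 := by
      have h : ∑ b ∈ Bf, b⁻¹ = (e * e)⁻¹ * ∑ b ∈ Bf, b⁻¹ := by
        conv_lhs => rw [← himg, Finset.sum_image g.injective.injOn]
        rw [Finset.mul_sum]
        exact Finset.sum_congr rfl fun b _ => by rw [hge, mul_inv]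
      exact (mul_eq_zero.1 (show ((e * e)⁻¹ - 1) * ∑ b ∈ Bf, b⁻¹ = 0 by linear_combination -h)).resolve_left
        (sub_ne_zero.2 (by rwa [Ne, inv_eq_one]))
    have h1B : (1 : ZMod p) ∈ Bf := by simp [hBf, hB1]
    rw [hA, Finset.sum_erase_eq_sub h1B, Finset.sum_erase_eq_sub h1B, Finset.sum_sub_distrib, h1, h2,
      inv_one, Finset.sum_const, nsmul_one, sub_self, zero_sub, sub_zero] at hsum
    have hcast : ((Bf.card + 1 : ℕ) : ZMod p) = 0 := by push_cast; linear_combination -hsum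
    obtain ⟨z, hz0, hzB⟩ := hBp
    have hsub : Bf ⊆ ((Finset.univ : Finset (ZMod p)).erase 0).erase z := fun b hb => by
      simp only [hBf, Finset.mem_filter, Finset.mem_univ, true_and] at hb
      simp only [Finset.mem_erase, Finset.mem_univ, and_true]
      exact ⟨fun h => hzB (h ▸ hb), fun h => hB0 (h ▸ hb)⟩
    have hle := Finset.card_le_card hsub
    rw [Finset.card_erase_of_mem (Finset.mem_erase.2 ⟨hz0, Finset.mem_univ _⟩),
      Finset.card_erase_of_mem (Finset.mem_univ _), Finset.card_univ, ZMod.card] at hle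
    rw [ZMod.natCast_eq_zero_iff] at hcast
    have := Nat.le_of_dvd (by omega) hcast
    omega
  · push Not at hsame
    obtain ⟨b, hbB, hb1⟩ := hBne
    have hns : ∀ a ∈ B, a ≠ 1 → ¬ IsSquare a := fun a ha ha1 h =>
      hsame 1 hB1 a ha (Ne.symm ha1) (by simpa using h)
    have hAb : ∀ a ∈ A, a = b := by
      intro a ha
      obtain ⟨a1, aB⟩ := (memA a).1 ha
      by_contra hab
      refine hsame b hbB a aB (Ne.symm hab) ?_
      have ha0 := ne0 a ha
      have hb0 : b ≠ 0 := fun h => hB0 (h ▸ hbB)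
      rw [← quadraticChar_one_iff_isSquare (mul_ne_zero ha0 (inv_ne_zero hb0)), map_mul,
        quadraticChar_neg_one_iff_not_isSquare.2 (hns a aB a1),
        quadraticChar_neg_one_iff_not_isSquare.2
          (fun h => hns b hbB hb1 (by simpa using h.inv))]
      norm_num
    have hbA : b ∈ A := (memA b).2 ⟨hb1, hbB⟩
    have hb0 : b ≠ 0 := ne0 b hbA
    have hψb : (1 - b)⁻¹ = b := hAb _ (hψA b hbA)
    have hb1' : 1 - b ≠ 0 := sub_ne_zero.2 (Ne.symm hb1)
    have hbq : b * (1 - b) = 1 := by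
      nth_rewrite 1 [← hψb]
      exact inv_mul_cancel₀ hb1'
    have hc : (-b) ^ 2 + -b + 1 = 0 := by linear_combination -hbq
    have hcs : IsSquare (-b) := (isSquare_neg_iff hneg hb0).2 (hns b hbB hb1)
    -- the orbit of `b` is a single point
    have hone : ∀ u v z z' : ZMod p, Reach H b u v z → Reach H b u v z' → z = z' := by
      rintro u v z z' ⟨σ, hσ, rfl, rfl, rfl⟩ ⟨τ, hτ, t0, t1, rfl⟩
      have h := hAb _ (fixA (σ⁻¹ * τ) (mul_mem (inv_mem hσ) hτ)
        (by rw [Perm.mul_apply, t0]; exact σ.symm_apply_apply _)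
        (by rw [Perm.mul_apply, t1]; exact σ.symm_apply_apply _) b hbA)
      rw [Perm.mul_apply, Perm.inv_eq_iff_eq] at h
      exact h.symm
    have hκb : κ b = b := hAb _ (hκA b hbA)
    have hsqT : ∀ u v : ZMod p, u ≠ v → IsSquare (v - u) → Reach H b u v (u - -b * (v - u)) := by
      intro u v huv hs
      obtain ⟨e, he⟩ := hs
      have he0 : e ≠ 0 := by rintro rfl; exact huv (sub_eq_zero.1 (by simpa using he)).symm
      obtain ⟨σ, hσ, hs⟩ := hH.scale_add he0 u
      exact ⟨σ, hσ, by simp [hs], by rw [hs, ← he]; ring, by rw [hs, ← he]; ring⟩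
    have hT : ∀ u v : ZMod p, u ≠ v → Reach H b u v (nettoT (-b) u v) := by
      intro u v huv
      by_cases hs : IsSquare (v - u)
      · rw [nettoT_sq (v - u) rfl hs]
        exact hsqT u v huv hs
      · rw [nettoT_nsq (v - u) rfl hs, hH.reach_swap hp3 hneg hb0 hb1 huv]
        have := hsqT v u huv.symm ((isSquare_sub_or hneg u v).resolve_left hs)
        convert this using 1
        ring
    have hTeq : ∀ τ ∈ infStab H, ∀ u v : ZMod p, τ (nettoT (-b) u v) = nettoT (-b) (τ u) (τ v) := by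
      intro τ hτ u v
      by_cases huv : u = v
      · subst huv
        rw [nettoT_sq 0 (sub_self u) IsSquare.zero, nettoT_sq 0 (sub_self (τ u)) IsSquare.zero]
        simp
      · exact hone (τ u) (τ v) _ _ ((reach_map hτ).2 (hT u v huv))
          (hT _ _ fun h => huv (τ.injective h))
    refine not_exchange hp hc hcs hneg fun y y0 y1 yb => ?_
    rw [neg_neg] at yb
    have y'0 : κ y ≠ 0 := fun h => y1 (κ.injective (h.trans k1.symm))
    have y'1 : κ y ≠ 1 := fun h => y0 (κ.injective (h.trans k0.symm))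
    have hnb : ∀ z : ZMod p, z ≠ b → ¬ Reach H b 0 1 z := fun z hz h => hz (hone 0 1 z b h reach_self)
    have hy : Reach H (κ y) 0 1 y := by
      rcases hH.reach_two_orbits hp3 hneg hb0 hb1 y'0 y'1 y0 y1 with h | h | h
      · exact absurd h (hnb _ fun h' => yb (κ.injective (h'.trans hκb.symm)))
      · exact absurd h (hnb _ yb)
      · exact h
    obtain ⟨w, hw, w0, w1, hwy⟩ := hy
    exact ⟨⇑(w * κ), by simp [k0, w1], by simp [k1, w0], by simp [hwy], (w * κ).injective,
      hTeq (w * κ) (mul_mem hw hκ)⟩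

end CfsgLib.Recog.EvenOverPSL
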