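import Cfsg.Agent.Lib.PLocal.DihAction
import Mathlib.FieldTheory.Finite.Basic
import Mathlib.Data.ZMod.Basic
import Mathlib.RingTheory.IntegralDomain

/-!
# The two-point setwise stabiliser: doubly transitive on the nonzero residues, or a block

It contains the regular dihedral group of the square scalings and `x ↦ -1 / x`.
-/

set_option autoImplicit false
set_option linter.style.haveILetI false

namespace CfsgLib.Recog.EvenOverPSL

open MulAction
open scoped Pointwise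

/-- A set through `1` that a group either maps to itself or off itself, or double transitivity. -/
theorem block_or_transitive {p : ℕ} [Fact p.Prime] (hp : 7 < p) (hneg : ¬ IsSquare (-1 : ZMod p))
    {Gp : Subgroup (Equiv.Perm (ZMod p))} (h0 : ∀ g ∈ Gp, g 0 = 0)
    (hscale : ∀ a : ZMod p, a ≠ 0 → ∃ g ∈ Gp, ∀ x, g x = a * a * x)
    (hinv : ∃ g ∈ Gp, ∀ x, g x = -x⁻¹) :
    (∀ x y : ZMod p, x ≠ 0 → x ≠ 1 → y ≠ 0 → y ≠ 1 → ∃ g ∈ Gp, g 1 = 1 ∧ g x = y) ∨
      ∃ B : Set (ZMod p), 1 ∈ B ∧ 0 ∉ B ∧ (∃ b ∈ B, b ≠ 1) ∧ (∃ z, z ≠ 0 ∧ z ∉ B) ∧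
        ∀ g ∈ Gp, (∃ b ∈ B, g b ∈ B) → ∀ b ∈ B, g b ∈ B := by
  classical
  have hp2 : p ≠ 2 := by omega
  let act : MulAction Gp {x : ZMod p // x ≠ 0} :=
    { smul := fun g x => ⟨(g : Equiv.Perm (ZMod p)) x, fun h =>
        x.2 ((g : Equiv.Perm (ZMod p)).injective (h.trans (h0 g g.2).symm))⟩
      one_smul := fun _ => Subtype.ext rfl
      mul_smul := fun _ _ _ => Subtype.ext rfl }
  letI := act
  have hsm : ∀ (g : Gp) (x : {x : ZMod p // x ≠ 0}),
      ((g • x : {x : ZMod p // x ≠ 0}) : ZMod p) = (g : Equiv.Perm (ZMod p)) x := fun _ _ => rfl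
  obtain ⟨w, hwG, hw⟩ := hinv
  -- the square scalings
  let C : Subgroup (ZMod p)ˣ := (powMonoidHom 2 : (ZMod p)ˣ →* (ZMod p)ˣ).range
  let sc : (ZMod p)ˣ →* Equiv.Perm (ZMod p) :=
    { toFun := fun u => u.mulLeft
      map_one' := Equiv.ext fun x => by simp
      map_mul' := fun u v => Equiv.ext fun x => by simp [mul_assoc] }
  have hsc : ∀ (u : (ZMod p)ˣ) (x : ZMod p), sc u x = u * x := fun u x => rfl
  have hCmem : ∀ u ∈ C, sc u ∈ Gp := by
    rintro _ ⟨v, rfl⟩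
    obtain ⟨g, hg, hgx⟩ := hscale v v.ne_zero
    convert hg using 1
    refine Equiv.ext fun x => ?_
    rw [hsc, hgx]
    simp [pow_two]
  let sG : C →* Gp := (sc.comp C.subtype).codRestrict Gp fun u => hCmem u u.2
  let b : Gp := ⟨w, hwG⟩
  have hb2 : b * b = 1 := Subtype.ext (Equiv.ext fun x => by simp [b, hw, inv_neg])
  have hconj : ∀ c : C, b * sG c * b = sG c⁻¹ := by
    intro c
    refine Subtype.ext (Equiv.ext fun x => ?_)
    show w (sc (c : (ZMod p)ˣ) (w x)) = sc ((c⁻¹ : C) : (ZMod p)ˣ) x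
    rw [hw, hsc, hw, hsc]
    rw [mul_neg, inv_neg, neg_neg, mul_inv, inv_inv, Subgroup.coe_inv, Units.val_inv_eq_inv_val]
  let D : Subgroup Gp :=
    { carrier := {g | ∃ c, g = sG c ∨ g = sG c * b}
      one_mem' := ⟨1, Or.inl (map_one sG).symm⟩
      mul_mem' := by
        have hbc : ∀ c, b * sG c = sG c⁻¹ * b := fun c => by
          rw [← hconj, mul_assoc (b * sG c) b b, hb2, mul_one]
        rintro _ _ ⟨c, rfl | rfl⟩ ⟨d, rfl | rfl⟩
        · exact ⟨c * d, Or.inl (map_mul ..).symm⟩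
        · exact ⟨c * d, Or.inr (by rw [map_mul, mul_assoc])⟩
        · exact ⟨c * d⁻¹, Or.inr (by rw [map_mul, mul_assoc, hbc, ← mul_assoc])⟩
        · exact ⟨c * d⁻¹, Or.inl (by
            rw [map_mul, mul_assoc, ← mul_assoc b, hbc, mul_assoc (sG d⁻¹), hb2, mul_one])⟩
      inv_mem' := by
        rintro _ ⟨c, rfl | rfl⟩
        · exact ⟨c⁻¹, Or.inl (map_inv sG c).symm⟩
        · refine ⟨c, Or.inr (inv_eq_of_mul_eq_one_right ?_)⟩
          rw [mul_assoc, ← mul_assoc b, hconj, ← map_mul, mul_inv_cancel, map_one] }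
  let one' : {x : ZMod p // x ≠ 0} := ⟨1, one_ne_zero⟩
  let ι : C →* D := sG.codRestrict D fun c => ⟨c, Or.inl rfl⟩
  let bD : D := ⟨b, 1, Or.inr (by rw [map_one, one_mul])⟩
  have hcov : ∀ e : D, ∃ c, e = ι c ∨ e = ι c * bD := by
    rintro ⟨g, c, h | h⟩
    · exact ⟨c, Or.inl (Subtype.ext h)⟩
    · exact ⟨c, Or.inr (Subtype.ext h)⟩
  have hι1 : ∀ c : C, ((D.subtype (ι c) • one' : {x : ZMod p // x ≠ 0}) : ZMod p) = ((c : (ZMod p)ˣ) : ZMod p) :=
    fun c => by rw [hsm]; exact (hsc _ _).trans (mul_one _)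
  have hι2 : ∀ c : C, ((D.subtype (ι c * bD) • one' : {x : ZMod p // x ≠ 0}) : ZMod p) =
      -((c : (ZMod p)ˣ) : ZMod p) := fun c => by
    rw [hsm]
    show sc (c : (ZMod p)ˣ) (w 1) = _
    rw [hsc, hw]; simp
  have hsq : ∀ c : C, IsSquare ((c : (ZMod p)ˣ) : ZMod p) := by
    rintro ⟨_, v, rfl⟩
    exact ⟨v, by simp [pow_two]⟩
  have hcases : ∀ x : ZMod p, x ≠ 0 → ∃ c : C, ((c : (ZMod p)ˣ) : ZMod p) = x ∨ -((c : (ZMod p)ˣ) : ZMod p) = x := by
    intro x hx
    have key : ∀ y : ZMod p, y ≠ 0 → IsSquare y → ∃ c : C, ((c : (ZMod p)ˣ) : ZMod p) = y := by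
      rintro y hy ⟨r, rfl⟩
      exact ⟨⟨_, Units.mk0 r (left_ne_zero_of_mul hy), rfl⟩, by simp [pow_two]⟩
    by_cases hs : IsSquare x
    · exact (key x hx hs).imp fun c => Or.inl
    · have hchar : ringChar (ZMod p) ≠ 2 := by rw [ZMod.ringChar_zmod_n]; exact hp2
      have h1 := (FiniteField.pow_dichotomy hchar hx).resolve_left
        fun h => hs ((FiniteField.isSquare_iff hchar hx).2 h)
      have h2 := (FiniteField.pow_dichotomy hchar (neg_ne_zero.2 (one_ne_zero (α := ZMod p)))).resolve_left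
        fun h => hneg ((FiniteField.isSquare_iff hchar (neg_ne_zero.2 one_ne_zero)).2 h)
      have h3 : IsSquare (-x) := (FiniteField.isSquare_iff hchar (neg_ne_zero.2 hx)).2 (by
        rw [show -x = (-1) * x by ring, mul_pow, h1, h2]; ring)
      obtain ⟨c, hc⟩ := key _ (neg_ne_zero.2 hx) h3
      exact ⟨c, Or.inr (by rw [hc, neg_neg])⟩
  have hdiff : ∀ c d : C, ((c : (ZMod p)ˣ) : ZMod p) ≠ -((d : (ZMod p)ˣ) : ZMod p) := by
    intro c d h
    refine hneg ?_
    have hd : ((d : (ZMod p)ˣ) : ZMod p) ≠ 0 := Units.ne_zero _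
    have : (-1 : ZMod p) = ((c : (ZMod p)ˣ) : ZMod p) * (((d : (ZMod p)ˣ) : ZMod p))⁻¹ := by
      rw [h]; field_simp
    rw [this]
    exact (hsq c).mul (hsq d).inv
  have hbij : Function.Bijective fun e : D => D.subtype e • one' := by
    refine ⟨fun e e' h => ?_, fun x => ?_⟩
    · have h' := congrArg Subtype.val h
      obtain ⟨c, rfl | rfl⟩ := hcov e <;> obtain ⟨d, rfl | rfl⟩ := hcov e' <;>
        simp only [hι1, hι2] at h'
      · rw [Subtype.ext (Units.ext h')]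
      · exact absurd h' (hdiff c d)
      · exact absurd h'.symm (hdiff d c)
      · rw [Subtype.ext (Units.ext (neg_injective h'))]
    · obtain ⟨c, h | h⟩ := hcases x x.2
      · exact ⟨ι c, Subtype.ext ((hι1 c).trans h)⟩
      · exact ⟨ι c * bD, Subtype.ext ((hι2 c).trans h)⟩
  have hιinj : Function.Injective ι := fun c d h => by
    have := congrArg (fun e : D => ((D.subtype e • one' : {x : ZMod p // x ≠ 0}) : ZMod p)) h
    simp only [hι1] at this
    exact Subtype.ext (Units.ext this)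
  have hbC : ∀ c, ι c ≠ bD := fun c h => by
    have := congrArg (fun e : D => ((D.subtype e • one' : {x : ZMod p // x ≠ 0}) : ZMod p)) h
    simp only [hι1] at this
    rw [show bD = ι 1 * bD by rw [map_one, one_mul], hι2] at this
    exact hdiff c 1 this
  haveI htr : IsPretransitive Gp {x : ZMod p // x ≠ 0} := by
    refine ⟨fun x y => ?_⟩
    obtain ⟨e, he⟩ := hbij.2 x
    obtain ⟨e', he'⟩ := hbij.2 y
    exact ⟨D.subtype e' * (D.subtype e)⁻¹, by rw [mul_smul, ← he, inv_smul_smul]; exact he'⟩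
  by_cases hprim : IsPreprimitive Gp {x : ZMod p // x ≠ 0}
  · left
    have hC : Nontrivial C := by
      have h4 : ((2 : ZMod p) * 2 : ZMod p) ≠ 1 := by
        intro h
        have h3 : ((3 : ℕ) : ZMod p) = 0 := by push_cast; linear_combination h
        rw [ZMod.natCast_eq_zero_iff] at h3
        have := Nat.le_of_dvd (by norm_num) h3
        omega
      have h2 : (2 : ZMod p) ≠ 0 := fun h => by
        have h2' : ((2 : ℕ) : ZMod p) = 0 := by exact_mod_cast h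
        rw [ZMod.natCast_eq_zero_iff] at h2'
        have := Nat.le_of_dvd (by norm_num) h2'
        omega
      refine ⟨⟨⟨_, Units.mk0 2 h2, rfl⟩, 1, fun h => h4 ?_⟩⟩
      simpa [pow_two] using congrArg (fun c : C => ((c : (ZMod p)ˣ) : ZMod p)) h
    haveI : IsCyclic (ZMod p)ˣ := inferInstance
    haveI : IsCyclic C := Subgroup.isCyclic C
    have hb2' : bD * bD = 1 := Subtype.ext hb2
    have hconj' : ∀ c, bD * ι c * bD = ι c⁻¹ := fun c => Subtype.ext (hconj c)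
    haveI := CfsgLib.PLocal.Dih.Action.two_transitive D.subtype one' hbij ι bD hιinj hb2' hconj' hcov hbC
      hprim hC
    intro x y hx hx1 hy hy1
    have hne : ∀ (u : ZMod p) (hu : u ≠ 0), u ≠ 1 → one' ≠ ⟨u, hu⟩ := fun u hu h1 h => h1 (congrArg Subtype.val h).symm
    obtain ⟨g, hg1, hg2⟩ := (is_two_pretransitive_iff.1 this) (hne x hx hx1) (hne y hy hy1)
    exact ⟨g, g.2, congrArg Subtype.val hg1, congrArg Subtype.val hg2⟩
  · right
    obtain ⟨B, hB1, hB, hnt⟩ : ∃ B : Set {x : ZMod p // x ≠ 0}, one' ∈ B ∧ IsBlock Gp B ∧ ¬ IsTrivialBlock B := by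
      by_contra hc
      push Not at hc
      exact hprim (IsPreprimitive.of_isTrivialBlock_base one' fun {B} h1 h2 => hc B h1 h2)
    rw [IsTrivialBlock, not_or] at hnt
    refine ⟨Subtype.val '' B, ⟨one', hB1, rfl⟩, fun ⟨x, _, hx⟩ => x.2 hx, ?_, ?_, ?_⟩
    · obtain ⟨x, hx, y, hy, hxy⟩ := Set.not_subsingleton_iff.1 hnt.1
      rcases eq_or_ne x one' with rfl | h
      · exact ⟨y, ⟨y, hy, rfl⟩, fun e => hxy (Subtype.ext e.symm)⟩
      · exact ⟨x, ⟨x, hx, rfl⟩, fun e => h (Subtype.ext e)⟩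
    · obtain ⟨z, hz⟩ := (Set.ne_univ_iff_exists_notMem B).1 hnt.2
      exact ⟨z, z.2, fun ⟨z', hz', e⟩ => hz (Subtype.ext e ▸ hz')⟩
    · rintro g hg ⟨_, ⟨x, hx, rfl⟩, y, hy, hxy⟩ _ ⟨z, hz, rfl⟩
      have hne : ((⟨g, hg⟩ : Gp) • B ∩ B).Nonempty :=
        ⟨y, ⟨x, hx, Subtype.ext hxy.symm⟩, hy⟩
      have heq := (isBlock_iff_smul_eq_or_disjoint.1 hB (⟨g, hg⟩ : Gp)).resolve_right fun hd =>
        hne.ne_empty (Set.disjoint_iff_inter_eq_empty.1 hd)
      exact ⟨(⟨g, hg⟩ : Gp) • z, by rw [← heq]; exact ⟨z, hz, rfl⟩, rfl⟩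

end CfsgLib.Recog.EvenOverPSL
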