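import Cfsg.Agent.Lib.Classical.PSLTwoPerm
import Cfsg.Agent.Lib.Classical.PGLTwo
import Mathlib.GroupTheory.Sylow
import Mathlib.GroupTheory.GroupAction.Primitive

/-!
# A transitive action of `PSL(2, p)` on `p + 1` points is the action on the projective line

A point stabiliser has a normal subgroup of order `p`, whose image fixes exactly one point of the
projective line, so it is the stabiliser of that point.
-/

set_option autoImplicit false
set_option linter.style.haveILetI false

namespace CfsgLib.Recog.EvenOverPSL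

open MulAction Matrix
open scoped LinearAlgebra.Projectivization

variable {p : ℕ} [Fact p.Prime]

local notation "PP" => ℙ (ZMod p) (Fin 2 → ZMod p)
local notation "PS" => Matrix.ProjectiveSpecialLinearGroup (Fin 2) (ZMod p)

/-- The point with coordinate `x`, or the point at infinity. -/
noncomputable def linePt : Option (ZMod p) → PP
  | none => Projectivization.mk (ZMod p) ![1, 0] CfsgLib.Classical.stdVec_zero_ne
  | some x => Projectivization.mk (ZMod p) ![x, 1] fun h => one_ne_zero (congrFun h 1)

local notation "lp" => linePt (p := p)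

theorem card_PP : Nat.card PP = p + 1 := by
  rw [CfsgLib.Classical.card_line, ZMod.card]

theorem linePt_injective : Function.Injective (linePt (p := p)) := by
  rintro (_ | x) (_ | y) h
  · rfl
  all_goals rw [linePt, linePt, Projectivization.mk_eq_mk_iff'] at h
  all_goals obtain ⟨a, ha⟩ := h
  all_goals have h0 := congrFun ha 0
  all_goals have h1 := congrFun ha 1
  all_goals simp at h0 h1
  · rw [h1] at h0; simp at h0
  · rw [h1, one_mul] at h0; rw [h0]

theorem linePt_bijective : Function.Bijective (linePt (p := p)) :=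
  (Nat.bijective_iff_injective_and_card _).2 ⟨linePt_injective, by
    rw [Finite.card_option, Nat.card_eq_fintype_card, ZMod.card, card_PP]⟩

/-- A special matrix. -/
def slOf (a b c d : ZMod p) (h : a * d - b * c = 1) : SpecialLinearGroup (Fin 2) (ZMod p) :=
  ⟨!![a, b; c, d], by rw [Matrix.det_fin_two_of]; exact h⟩

theorem slOf_smul (a b c d : ZMod p) (h : a * d - b * c = 1) (v : Fin 2 → ZMod p) :
    slOf a b c d h • v = !![a, b; c, d] *ᵥ v := rfl

theorem psl_smul_none {a b c d : ZMod p} (h : a * d - b * c = 1) (hc : c = 0) :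
    (QuotientGroup.mk (slOf a b c d h) : PS) • lp none = lp none := by
  rw [ProjectiveSpecialLinearGroup.smul_proj_mk, linePt, Projectivization.smul_mk,
    Projectivization.mk_eq_mk_iff']
  refine ⟨a, ?_⟩
  rw [slOf_smul]
  funext k
  fin_cases k <;> simp [hc]

theorem psl_smul_some {a b c d : ZMod p} (h : a * d - b * c = 1) {x y : ZMod p} (hne : c * x + d ≠ 0)
    (hy : a * x + b = (c * x + d) * y) :
    (QuotientGroup.mk (slOf a b c d h) : PS) • lp (some x) = lp (some y) := by
  rw [ProjectiveSpecialLinearGroup.smul_proj_mk, linePt, linePt, Projectivization.smul_mk,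
    Projectivization.mk_eq_mk_iff']
  refine ⟨c * x + d, ?_⟩
  rw [slOf_smul]
  funext k
  fin_cases k <;> simp <;> grind

theorem psl_fix_none (π : PS) (h : π • lp none = lp none) :
    ∃ a b : ZMod p, a ≠ 0 ∧ ∀ x, π • lp (some x) = lp (some (a * a * x + b)) := by
  obtain ⟨A, rfl⟩ := QuotientGroup.mk_surjective π
  rw [ProjectiveSpecialLinearGroup.smul_proj_mk, linePt, Projectivization.smul_mk,
    Projectivization.mk_eq_mk_iff'] at h
  obtain ⟨r, hr⟩ := h
  have h10 : A.1 1 0 = 0 := by
    have := congrFun hr 1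
    simpa [show A • (![1, 0] : Fin 2 → ZMod p) = A.1 *ᵥ ![1, 0] from rfl, Matrix.mulVec, dotProduct] using this.symm
  have hd : A.1 0 0 * A.1 1 1 = 1 := by
    have := A.2
    rw [det_fin_two, h10, mul_zero, sub_zero] at this
    exact this
  have ha : A.1 0 0 ≠ 0 := left_ne_zero_of_mul_eq_one hd
  refine ⟨A.1 0 0, A.1 0 0 * A.1 0 1, ha, fun x => ?_⟩
  have hA : A = slOf (A.1 0 0) (A.1 0 1) 0 (A.1 1 1) (by rw [mul_zero, sub_zero]; exact hd) := by
    refine Subtype.ext ?_
    ext i j
    fin_cases i <;> fin_cases j <;> simp [slOf, h10]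
  conv_lhs => rw [hA]
  refine psl_smul_some _ (by simpa using right_ne_zero_of_mul_eq_one hd) ?_
  linear_combination (-(A.1 0 0) * x - A.1 0 1) * hd

variable {K Ω : Type*} [Group K] [Finite K] [MulAction K Ω] [Fintype Ω]
  [MulAction.IsPretransitive K Ω]

/-- A transitive action on `p + 1` points is equivalent to the one on the projective line. -/
theorem exists_equivariant (hp2 : p ≠ 2) (hΩ : Fintype.card Ω = p + 1) (φ : K ≃* PS) :
    ∃ e : PP ≃ Ω, ∀ (g : K) (z : PP), e (φ g • z) = g • e z := by
  classical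
  have hp : p.Prime := Fact.out
  haveI hpre : IsPretransitive PS PP := IsPreprimitive.toIsPretransitive
  obtain ⟨i₀⟩ : Nonempty Ω := Fintype.card_pos_iff.1 (by omega)
  haveI : Finite PS := Finite.of_equiv K φ.toEquiv
  set S := stabilizer K i₀ with hS
  have hidx : S.index = p + 1 := by
    rw [hS, MulAction.index_stabilizer_of_transitive, Nat.card_eq_fintype_card, hΩ]
  have hK : 2 * Nat.card K = p * (p * p - 1) := by
    have h := CfsgLib.Classical.card_psl_two_mul (F := ZMod p)
    obtain ⟨k, hk⟩ := hp.odd_of_ne_two hp2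
    rw [ZMod.card, ← Nat.card_congr φ.toEquiv, Nat.gcd_eq_left ⟨k, by omega⟩, pow_two] at h
    exact h
  have hScard : 2 * Nat.card S = p * (p - 1) := by
    have h := S.card_mul_index
    rw [hidx] at h
    refine Nat.eq_of_mul_eq_mul_right (show 0 < p + 1 by omega) ?_
    rw [mul_assoc, h, hK, mul_assoc]
    congr 1
    obtain ⟨m, rfl⟩ : ∃ m, p = m + 1 := ⟨p - 1, by have := hp.pos; omega⟩
    simp only [Nat.add_sub_cancel]
    exact Nat.sub_eq_of_eq_add (by ring)
  obtain ⟨P⟩ : Nonempty (Sylow p S) := inferInstance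
  have hp3 : 3 ≤ p := by have := hp.two_le; omega
  have hsplit : Nat.card S = p * ((p - 1) / 2) := by
    obtain ⟨k, hk⟩ := hp.odd_of_ne_two hp2
    rw [show (p - 1) / 2 = k by omega]
    have : p - 1 = 2 * k := by omega
    rw [this] at hScard
    exact Nat.eq_of_mul_eq_mul_left (show 0 < 2 by norm_num) (by rw [hScard]; ring)
  have hPcard : Nat.card (P : Subgroup S) = p := by
    rw [P.card_eq_multiplicity, hsplit, Nat.factorization_mul hp.ne_zero (by omega), Finsupp.add_apply,
      hp.factorization_self, Nat.factorization_eq_zero_of_not_dvd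
        (fun h => by have := Nat.le_of_dvd (by omega) h; omega), add_zero, pow_one]
  have hPidx : (P : Subgroup S).index = (p - 1) / 2 := by
    have h := (P : Subgroup S).card_mul_index
    rw [hPcard, hsplit] at h
    exact Nat.eq_of_mul_eq_mul_left hp.pos h
  have hn1 : Nat.card (Sylow p S) = 1 := by
    have hd : Nat.card (Sylow p S) ∣ (p - 1) / 2 := hPidx ▸ P.card_dvd_index
    have hle := Nat.le_of_dvd (by omega) hd
    have hm := card_sylow_modEq_one p S
    rwa [Nat.ModEq, Nat.mod_eq_of_lt (by omega), Nat.mod_eq_of_lt hp.one_lt] at hm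
  haveI : Subsingleton (Sylow p S) := (Nat.card_eq_one_iff_unique.1 hn1).1
  have hPn : (P : Subgroup S).Normal := Sylow.normal_of_subsingleton P
  -- the fixed point on the line
  set R : Subgroup PS := ((P : Subgroup S).map S.subtype).map φ.toMonoidHom with hR
  have hRcard : Nat.card R = p := by
    rw [hR, Subgroup.card_map_of_injective φ.injective, Subgroup.card_subtype, hPcard]
  have hRp : IsPGroup p R := IsPGroup.of_card (n := 1) (by rw [hRcard, pow_one])
  have hmod := hRp.card_modEq_card_fixedPoints PP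
  rw [card_PP] at hmod
  have hlt : Nat.card (fixedPoints R PP) < p + 1 := by
    refine lt_of_le_of_ne (card_PP (p := p) ▸ Nat.card_le_card_of_injective _ Subtype.val_injective) fun h => ?_
    have htriv : ∀ r : R, r = 1 := fun r => by
      refine Subtype.ext (FaithfulSMul.eq_of_smul_eq_smul (α := PP) fun z => ?_)
      rw [Subgroup.coe_one, one_smul]
      have hu : fixedPoints R PP = Set.univ :=
        Set.eq_of_subset_of_ncard_le (Set.subset_univ _) (by
          rw [Set.ncard_univ, ← Nat.card_coe_set_eq, h, card_PP])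
      exact (hu ▸ Set.mem_univ z : z ∈ fixedPoints R PP) r
    haveI : Subsingleton R := ⟨fun a b => (htriv a).trans (htriv b).symm⟩
    rw [Nat.card_of_subsingleton (1 : R)] at hRcard
    omega
  have hone : Nat.card (fixedPoints R PP) = 1 := by
    rw [Nat.ModEq, Nat.add_mod_left, Nat.mod_eq_of_lt hp.one_lt] at hmod
    rcases Nat.lt_or_ge (Nat.card (fixedPoints R PP)) p with h | h
    · rw [Nat.mod_eq_of_lt h] at hmod; exact hmod.symm
    · rw [show Nat.card (fixedPoints R PP) = p by omega, Nat.mod_self] at hmod; omega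
  obtain ⟨⟨hsub⟩, ⟨q⟩⟩ := Nat.card_eq_one_iff_unique.1 hone
  have hfix : ∀ g ∈ S, φ g • (q : PP) = q := by
    intro g hg
    have hm : φ g • (q : PP) ∈ fixedPoints R PP := by
      rintro ⟨r, hr⟩
      obtain ⟨_, ⟨x, hx, rfl⟩, rfl⟩ := hr
      have hc : (⟨g, hg⟩ : S)⁻¹ * x * ⟨g, hg⟩ ∈ (P : Subgroup S) := by
        simpa using hPn.conj_mem x hx (⟨g, hg⟩ : S)⁻¹
      have hq := q.2 ⟨φ ((g : K)⁻¹ * x * g), _, ⟨_, hc, rfl⟩, rfl⟩
      show φ (x : K) • φ g • (q : PP) = φ g • (q : PP)
      have hq' : φ (g⁻¹ * (x : K) * g) • (q : PP) = q := hq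
      conv_rhs => rw [← hq']
      rw [← mul_smul, ← mul_smul, ← map_mul, ← map_mul]
      congr 2
      group
    exact congrArg Subtype.val (hsub ⟨_, hm⟩ q)
  have hle : S ≤ (stabilizer PS (q : PP)).comap φ.toMonoidHom := fun g hg => hfix g hg
  have hTidx : ((stabilizer PS (q : PP)).comap φ.toMonoidHom).index = p + 1 := by
    rw [Subgroup.index_comap_of_surjective _ φ.surjective, MulAction.index_stabilizer_of_transitive, card_PP]
  have heq : S = (stabilizer PS (q : PP)).comap φ.toMonoidHom := by
    refine Subgroup.eq_of_le_of_card_ge hle ?_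
    have h1 := S.card_mul_index
    have h2 := ((stabilizer PS (q : PP)).comap φ.toMonoidHom).card_mul_index
    rw [hidx] at h1
    rw [hTidx, ← h1] at h2
    exact le_of_eq (Nat.eq_of_mul_eq_mul_right (by omega) h2)
  choose r hr using fun z : PP => exists_smul_eq PS (q : PP) z
  let f : PP → Ω := fun z => φ.symm (r z) • i₀
  have key : ∀ (g : K), f (φ g • (q : PP)) = g • i₀ := by
    intro g
    have h : g⁻¹ * φ.symm (r (φ g • (q : PP))) ∈ (stabilizer PS (q : PP)).comap φ.toMonoidHom := by
      show φ (g⁻¹ * φ.symm (r (φ g • (q : PP)))) • (q : PP) = q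
      rw [map_mul, φ.apply_symm_apply, mul_smul, hr, map_inv, inv_smul_smul]
    rw [← heq, hS, mem_stabilizer_iff, mul_smul, inv_smul_eq_iff] at h
    exact h
  have heqv : ∀ (g : K) (z : PP), f (φ g • z) = g • f z := by
    intro g z
    obtain ⟨h, hh⟩ := φ.surjective (r z)
    have hz : φ h • (q : PP) = z := by rw [hh]; exact hr z
    rw [← hz, ← mul_smul, ← map_mul, key, key, mul_smul]
  have hsurj : Function.Surjective f := fun ω => by
    obtain ⟨g, hg⟩ := exists_smul_eq K i₀ ω
    exact ⟨φ g • (q : PP), (key g).trans hg⟩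
  exact ⟨Equiv.ofBijective f ((Nat.bijective_iff_surjective_and_card f).2
    ⟨hsurj, by rw [card_PP, Nat.card_eq_fintype_card, hΩ]⟩), heqv⟩

/-- **The coordinates**: translations, square scalings, `x ↦ -1/x`, and the stabiliser of `∞`. -/
theorem exists_line (hp2 : p ≠ 2) (hΩ : Fintype.card Ω = p + 1) (hK : Nonempty (K ≃* PS)) :
    ∃ e : Option (ZMod p) ≃ Ω,
      (∀ b : ZMod p, ∃ g : K, g • e none = e none ∧ ∀ x, g • e (some x) = e (some (x + b))) ∧
      (∀ a : ZMod p, a ≠ 0 → ∃ g : K, g • e none = e none ∧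
        ∀ x, g • e (some x) = e (some (a * a * x))) ∧
      (∃ w : K, w • e none = e (some 0) ∧ w • e (some 0) = e none ∧
        ∀ x : ZMod p, x ≠ 0 → w • e (some x) = e (some (-x⁻¹))) ∧
      (∀ g : K, g • e none = e none → ∃ a b : ZMod p, a ≠ 0 ∧
        ∀ x, g • e (some x) = e (some (a * a * x + b))) ∧
      2 * Nat.card K = p * (p - 1) * (p + 1) := by
  obtain ⟨φ⟩ := hK
  obtain ⟨e, he⟩ := exists_equivariant (Ω := Ω) hp2 hΩ φ
  let E : Option (ZMod p) ≃ Ω := (Equiv.ofBijective _ linePt_bijective).trans e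
  have hE : ∀ (π : PS) (u v : Option (ZMod p)), π • lp u = lp v → φ.symm π • E u = E v := by
    intro π u v h
    show φ.symm π • e (lp u) = e (lp v)
    rw [← he, φ.apply_symm_apply, h]
  refine ⟨E, fun b => ?_, fun a ha => ?_, ?_, fun g hg => ?_, ?_⟩
  · exact ⟨φ.symm (QuotientGroup.mk (slOf 1 b 0 1 (by ring))), hE _ _ _ (psl_smul_none _ rfl),
      fun x => hE _ _ _ (psl_smul_some _ (by simp) (by ring))⟩
  · exact ⟨φ.symm (QuotientGroup.mk (slOf a 0 0 a⁻¹ (by simp [ha]))), hE _ _ _ (psl_smul_none _ rfl),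
      fun x => hE _ _ _ (psl_smul_some _ (by simp [ha]) (by field_simp; ring))⟩
  · refine ⟨φ.symm (QuotientGroup.mk (slOf 0 (-1) 1 0 (by ring))), hE _ _ _ ?_, hE _ _ _ ?_,
      fun x hx => hE _ _ _ (psl_smul_some _ (by simpa using hx) (by field_simp; ring))⟩
    · rw [ProjectiveSpecialLinearGroup.smul_proj_mk, linePt, linePt, Projectivization.smul_mk,
        Projectivization.mk_eq_mk_iff']
      refine ⟨1, ?_⟩
      rw [slOf_smul]
      funext k
      fin_cases k <;> simp
    · rw [ProjectiveSpecialLinearGroup.smul_proj_mk, linePt, linePt, Projectivization.smul_mk,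
        Projectivization.mk_eq_mk_iff']
      refine ⟨-1, ?_⟩
      rw [slOf_smul]
      funext k
      fin_cases k <;> simp
  · have h : φ g • lp none = lp none := e.injective ((he g _).trans hg)
    obtain ⟨a, b, ha, hab⟩ := psl_fix_none _ h
    exact ⟨a, b, ha, fun x => by simpa using hE (φ g) _ _ (hab x)⟩
  · have h := CfsgLib.Classical.card_psl_two_mul (F := ZMod p)
    obtain ⟨k, hk⟩ := (Fact.out : p.Prime).odd_of_ne_two hp2
    rw [ZMod.card, ← Nat.card_congr φ.toEquiv, Nat.gcd_eq_left ⟨k, by omega⟩] at h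
    rw [h, hk, Nat.add_sub_cancel, mul_assoc]
    congr 1
    exact Nat.sub_eq_of_eq_add (by ring)

end CfsgLib.Recog.EvenOverPSL
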