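import Cfsg.Agent.Lib.Recog.EvenOverPSL.Blocks
import Cfsg.Agent.Lib.Recog.EvenOverPSL.Dichotomy
import Cfsg.Agent.Lib.Recog.EvenOverPSL.Line

/-!
An even permutation group on `p + 1` points properly containing `PSL(2, p)` is four-fold transitive.
-/

set_option autoImplicit false

open Equiv

namespace CfsgLib.Recog.EvenOverPSL

variable {p : ℕ} [Fact p.Prime] {H : Subgroup (Perm (Option (ZMod p)))}

/-- The stabiliser of infinity is triply transitive. -/
theorem LineHyp.reach_all (hH : LineHyp H) (hp : 7 < p) {x y : ZMod p} (hx0 : x ≠ 0) (hx1 : x ≠ 1)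
    (hy0 : y ≠ 0) (hy1 : y ≠ 1) : Reach H x 0 1 y := by
  have hp3 : 3 < p := by omega
  by_cases hsq : IsSquare (-1 : ZMod p)
  · exact hH.reach_of_isSquare hp3 hsq hx0 hx1 hy0 hy1
  rcases block_or_transitive hp hsq (Gp := pairStab hH) (fun g hg => hg.1) (fun a ha => hH.pairStab_scale ha)
      hH.pairStab_inv with h | ⟨B, hB1, hB0, hBne, hBp, hblock⟩
  · obtain ⟨g, hg, g1, gx⟩ := h x y hx0 hx1 hy0 hy1
    exact gx ▸ hH.reach_pairStab hp3 hsq hg g1 hx0 hx1
  · exact (hH.no_block hp hsq hB1 hB0 hBne hBp hblock).elim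

/-- Every ordered quadruple of points is equivalent to a standard one. -/
theorem LineHyp.exists_normal (hH : LineHyp H) (hp : 7 < p) {z₀ : ZMod p} (h0 : z₀ ≠ 0) (h1 : z₀ ≠ 1)
    {a b c d : Option (ZMod p)} (hab : a ≠ b) (hac : a ≠ c) (had : a ≠ d) (hbc : b ≠ c) (hbd : b ≠ d)
    (hcd : c ≠ d) :
    ∃ g ∈ H, g a = none ∧ g b = some 0 ∧ g c = some 1 ∧ g d = some z₀ := by
  have hp3 : 3 < p := by omega
  obtain ⟨g₁, hg₁, ha⟩ : ∃ g ∈ H, g a = none := by
    rcases a with _ | x
    · exact ⟨1, one_mem _, rfl⟩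
    · exact ⟨lineInv * extendHom (Equiv.addRight (-x)), H.mul_mem hH.inv (hH.trans _), by simp⟩
  have pt : ∀ o, a ≠ o → ∃ z, g₁ o = some z := by
    intro o ho
    rcases h : g₁ o with _ | z
    · exact absurd (g₁.injective (ha.trans h.symm)) ho
    · exact ⟨z, rfl⟩
  obtain ⟨b', hb⟩ := pt b hab
  obtain ⟨c', hc⟩ := pt c hac
  obtain ⟨d', hd⟩ := pt d had
  have hb'c' : b' ≠ c' := fun h => hbc (g₁.injective (by rw [hb, hc, h]))
  obtain ⟨σ, hσ, s0, s1⟩ := hH.two_trans hp3 hb'c' (zero_ne_one (α := ZMod p))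
  have hd0 : σ d' ≠ 0 := fun h => hbd (g₁.injective (by rw [hb, hd, σ.injective (s0.trans h.symm)]))
  have hd1 : σ d' ≠ 1 := fun h => hcd (g₁.injective (by rw [hc, hd, σ.injective (s1.trans h.symm)]))
  obtain ⟨τ, hτ, t0, t1, td⟩ := hH.reach_all hp hd0 hd1 h0 h1
  refine ⟨extendHom τ * extendHom σ * g₁, H.mul_mem (H.mul_mem hτ hσ) hg₁, ?_, ?_, ?_, ?_⟩
  · simp [ha]
  · simp [hb, s0, t0]
  · simp [hc, s1, t1]
  · simp [hd, td]

/-- A permutation of the field which is a scaling is even only for a square. -/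
theorem isSquare_of_sign_mulLeft (hp : 2 < p) {a : ZMod p} (ha : a ≠ 0)
    (h : Perm.sign (Equiv.mulLeft₀ a ha) = 1) : IsSquare a := by
  classical
  obtain ⟨g, hg⟩ := IsCyclic.exists_generator (α := (ZMod p)ˣ)
  let M : (ZMod p)ˣ →* Perm (ZMod p) := MulAction.toPermHom (ZMod p)ˣ (ZMod p)
  have hM : ∀ (u : (ZMod p)ˣ) (x : ZMod p), M u x = u * x := fun u x => rfl
  obtain ⟨k, hk⟩ := (Submonoid.mem_powers_iff _ _).1 (mem_powers_iff_mem_zpowers.2 (hg (Units.mk0 a ha)))
  by_cases hg1 : g = 1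
  · subst hg1
    rw [one_pow] at hk
    have : a = 1 := by rw [← Units.val_mk0 ha, ← hk, Units.val_one]
    rw [this]; exact IsSquare.one
  have hsupp : (M g).support = (Finset.univ : Finset (ZMod p)).erase 0 := by
    ext x
    simp only [Perm.mem_support, Finset.mem_erase, Finset.mem_univ, and_true, hM]
    refine ⟨fun h hx => h (by rw [hx, mul_zero]), fun hx h => hg1 (Units.ext ?_)⟩
    exact mul_right_cancel₀ hx (by rw [h, Units.val_one, one_mul])
  have hcyc : (M g).IsCycle := by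
    refine ⟨1, ?_, fun y hy => ?_⟩
    · rw [hM, mul_one, Ne, Units.val_eq_one]; exact hg1
    · have hy0 : y ≠ 0 := by
        rintro rfl
        exact hy (by rw [hM, mul_zero])
      obtain ⟨n, hn⟩ := Subgroup.mem_zpowers_iff.1 (hg (Units.mk0 y hy0))
      refine ⟨n, ?_⟩
      rw [← map_zpow, hn, hM, Units.val_mk0, mul_one]
  have hsign : Perm.sign (M g) = -1 := by
    rw [hcyc.sign, hsupp, Finset.card_erase_of_mem (Finset.mem_univ _), Finset.card_univ, ZMod.card]
    rcases (Fact.out : p.Prime).eq_two_or_odd' with h2 | h2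
    · omega
    · obtain ⟨m, hm⟩ := h2
      rw [hm, Nat.add_sub_cancel, pow_mul]
      simp
  have hMk : M (g ^ k) = Equiv.mulLeft₀ a ha := by
    ext x
    rw [hk, hM]
    rfl
  rw [← hMk, map_pow, map_pow, hsign] at h
  have heven : Even k := (neg_one_pow_eq_one_iff_even (by decide)).1 h
  obtain ⟨m, rfl⟩ := heven
  exact ⟨((g ^ m : (ZMod p)ˣ) : ZMod p), by rw [← Units.val_mul, ← pow_add, hk, Units.val_mk0]⟩

/-- The theorem. -/
theorem four_transitive {X Ω : Type*} [Group X] [Finite X] [MulAction X Ω] [FaithfulSMul X Ω] [Fintype Ω]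
    [DecidableEq Ω] (hp7 : 7 < p) (hΩ : Fintype.card Ω = p + 1)
    (heven : ∀ x : X, Perm.sign (MulAction.toPerm x : Perm Ω) = 1)
    (L : Subgroup X) (hL : Nonempty (↥L ≃* Matrix.ProjectiveSpecialLinearGroup (Fin 2) (ZMod p)))
    (hLt : MulAction.IsMultiplyPretransitive ↥L Ω 2) (hLX : L ≠ ⊤) :
    MulAction.IsMultiplyPretransitive X Ω 4 := by
  classical
  haveI := hLt
  haveI hLp : MulAction.IsPretransitive L Ω := MulAction.isPretransitive_of_is_two_pretransitive
  obtain ⟨e, htr, hsc, ⟨w, hwn, hw0, hwx⟩, hstab, -⟩ := exists_line (by omega) hΩ hL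
  let f : X →* Perm (Option (ZMod p)) :=
    { toFun := fun x => (e.trans (MulAction.toPerm x)).trans e.symm
      map_one' := by ext o : 1; simp
      map_mul' := fun x y => by ext o : 1; simp [mul_smul] }
  have hf : ∀ x o, e (f x o) = x • e o := fun x o => by simp [f]
  have hfinj : Function.Injective f := fun x y h => eq_of_smul_eq_smul (α := Ω) fun o => by
    obtain ⟨q, rfl⟩ := e.surjective o
    rw [← hf, ← hf, h]
  have hsign : ∀ x, Perm.sign (f x) = 1 := fun x => by
    have : f x = e.symm.permCongr (MulAction.toPerm x) := by ext o : 1; simp [f]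
    rw [this, Perm.sign_permCongr, heven]
  have fval : ∀ (g : L) o o', g • e o = e o' → f (g : X) o = o' := fun g o o' h =>
    e.injective ((hf _ o).trans h)
  have ext_of : ∀ (g : L) (σ : Perm (ZMod p)), g • e none = e none →
      (∀ x, g • e (some x) = e (some (σ x))) → f (g : X) = extendHom σ := by
    intro g σ h0 hx
    ext o : 1
    rcases o with _ | x
    · exact fval g _ _ h0
    · exact fval g _ _ (hx x)
  let H : Subgroup (Perm (Option (ZMod p))) := f.range
  have hH : LineHyp H := by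
    refine ⟨fun b => ?_, fun a ha => ?_, ?_, ?_⟩
    · obtain ⟨g, g0, gx⟩ := htr b
      exact ⟨g, ext_of g _ g0 (fun x => by rw [gx]; rfl)⟩
    · obtain ⟨g, g0, gx⟩ := hsc a (left_ne_zero_of_mul ha)
      exact ⟨g, ext_of g _ g0 (fun x => by rw [gx]; rfl)⟩
    · refine ⟨w, ?_⟩
      ext o : 1
      rcases o with _ | x
      · exact fval w _ _ hwn
      · by_cases hx : x = 0
        · subst hx; rw [lineInv_zero]; exact fval w _ _ hw0
        · rw [lineInv_some hx]; exact fval w _ _ (hwx x hx)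
    · by_contra hall
      push Not at hall
      refine hLX (top_unique fun x _ => ?_)
      obtain ⟨l, hl⟩ := MulAction.exists_smul_eq L (e none) (x • e none)
      have hl' : (l : X) • e none = x • e none := hl
      have hy : f ((l : X)⁻¹ * x) none = none := e.injective (by rw [hf, mul_smul, ← hl', inv_smul_smul])
      obtain ⟨σ, hσ, hσe⟩ := exists_infStab (H := H) ⟨(l : X)⁻¹ * x, rfl⟩ hy
      obtain ⟨a, b, hab⟩ := hall σ hσ
      have ha : a ≠ 0 := fun h => zero_ne_one (α := ZMod p) (σ.injective (by rw [hab, hab, h, zero_mul, zero_mul]))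
      have hσ' : σ = Equiv.addRight b * Equiv.mulLeft₀ a ha := by ext y; simp [hab]
      obtain ⟨gb, gb0, gbx⟩ := htr b
      have hgb : f (gb : X) = extendHom (Equiv.addRight b) := ext_of gb _ gb0 (fun x => by rw [gbx]; rfl)
      have hsa : Perm.sign (Equiv.mulLeft₀ a ha) = 1 := by
        have e1 : f ((gb : X)⁻¹ * ((l : X)⁻¹ * x)) = extendHom (Equiv.mulLeft₀ a ha) := by
          rw [map_mul, map_inv, hgb, hσe, hσ', map_mul, inv_mul_cancel_left]
        have e2 := hsign ((gb : X)⁻¹ * ((l : X)⁻¹ * x))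
        rwa [e1, show extendHom (Equiv.mulLeft₀ a ha) = Equiv.optionCongr (Equiv.mulLeft₀ a ha) from rfl,
          Equiv.optionCongr_sign] at e2
      obtain ⟨r, hr⟩ := isSquare_of_sign_mulLeft (by omega) ha hsa
      subst hr
      obtain ⟨ga, ga0, gax⟩ := hsc r (left_ne_zero_of_mul ha)
      have hga : f (ga : X) = extendHom (Equiv.mulLeft₀ (r * r) ha) :=
        ext_of ga _ ga0 (fun x => by rw [gax]; rfl)
      have : f ((l : X)⁻¹ * x) = f (((gb * ga : L)) : X) := by
        rw [hσe, hσ', map_mul, ← hgb, ← hga, ← map_mul]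
        rfl
      have := hfinj this
      rw [inv_mul_eq_iff_eq_mul] at this
      rw [this]
      exact mul_mem l.2 (gb * ga : L).2
  have h20 : (2 : ZMod p) ≠ 0 := natCast_two_ne_zero (by omega)
  have h21 : (2 : ZMod p) ≠ 1 := fun h => one_ne_zero (α := ZMod p) (by linear_combination h)
  rw [MulAction.isMultiplyPretransitive_iff]
  intro u v
  have key : ∀ u : Fin 4 ↪ Ω, ∃ g : X, g • u 0 = e none ∧ g • u 1 = e (some 0) ∧ g • u 2 = e (some 1) ∧
      g • u 3 = e (some 2) := by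
    intro u
    have hne : ∀ i j : Fin 4, i ≠ j → e.symm (u i) ≠ e.symm (u j) := fun i j h h' =>
      h (u.injective (e.symm.injective h'))
    obtain ⟨g, ⟨x, rfl⟩, g0, g1, g2, g3⟩ := hH.exists_normal hp7 h20 h21 (hne 0 1 (by decide))
      (hne 0 2 (by decide)) (hne 0 3 (by decide)) (hne 1 2 (by decide)) (hne 1 3 (by decide))
      (hne 2 3 (by decide))
    refine ⟨x, ?_, ?_, ?_, ?_⟩
    · rw [← g0, hf, Equiv.apply_symm_apply]
    · rw [← g1, hf, Equiv.apply_symm_apply]
    · rw [← g2, hf, Equiv.apply_symm_apply]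
    · rw [← g3, hf, Equiv.apply_symm_apply]
  obtain ⟨g, a0, a1, a2, a3⟩ := key u
  obtain ⟨h, b0, b1, b2, b3⟩ := key v
  refine ⟨h⁻¹ * g, ?_⟩
  ext i
  fin_cases i <;> simp [Function.Embedding.smul_apply, mul_smul, inv_smul_eq_iff, a0, a1, a2, a3, b0, b1, b2, b3]

end CfsgLib.Recog.EvenOverPSL
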