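import Cfsg.Agent.Lib.Recog.EvenOverPSL.Space

/-!
A permutation group of the projective line over `ZMod p` containing the translations, the square scalings and
`x ↦ -1/x`, and a non-affine map fixing infinity: the stabiliser of infinity is doubly transitive and its
orbits on triples are described by symmetric sets.
-/

set_option autoImplicit false

open Equiv

namespace CfsgLib.Recog.EvenOverPSL

variable {p : ℕ} [Fact p.Prime]

/-- The map `x ↦ -1/x` of the projective line. -/
def lineInvFun : Option (ZMod p) → Option (ZMod p)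
  | none => some 0
  | some x => if x = 0 then none else some (-x⁻¹)

theorem lineInvFun_invol : Function.Involutive (lineInvFun (p := p)) := by
  intro o
  rcases o with _ | x
  · simp [lineInvFun]
  · by_cases hx : x = 0
    · simp [lineInvFun, hx]
    · simp [lineInvFun, hx, inv_neg]

def lineInv : Perm (Option (ZMod p)) := (lineInvFun_invol (p := p)).toPerm _

@[simp] theorem lineInv_none : lineInv (p := p) none = some 0 := rfl

@[simp] theorem lineInv_zero : lineInv (p := p) (some 0) = none := by simp [lineInv, lineInvFun]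

theorem lineInv_some {x : ZMod p} (hx : x ≠ 0) : lineInv (some x) = some (-x⁻¹) := by
  simp [lineInv, lineInvFun, hx]

theorem lineInv_lineInv (o : Option (ZMod p)) : lineInv (lineInv o) = o := lineInvFun_invol o

/-- Extension of a permutation of `ZMod p` to the line, as a homomorphism. -/
def extendHom : Perm (ZMod p) →* Perm (Option (ZMod p)) where
  toFun := Equiv.optionCongr
  map_one' := by ext o : 1; rcases o with _ | x <;> rfl
  map_mul' σ τ := by ext o : 1; rcases o with _ | x <;> rfl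

@[simp] theorem extendHom_none (σ : Perm (ZMod p)) : extendHom σ none = none := rfl

@[simp] theorem extendHom_some (σ : Perm (ZMod p)) (x : ZMod p) : extendHom σ (some x) = some (σ x) := rfl

/-- The permutations of `ZMod p` induced by the stabiliser of infinity. -/
def infStab (H : Subgroup (Perm (Option (ZMod p)))) : Subgroup (Perm (ZMod p)) := H.comap extendHom

theorem mem_infStab {H : Subgroup (Perm (Option (ZMod p)))} {σ : Perm (ZMod p)} :
    σ ∈ infStab H ↔ extendHom σ ∈ H := Iff.rfl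

theorem exists_infStab {H : Subgroup (Perm (Option (ZMod p)))} {g : Perm (Option (ZMod p))} (hg : g ∈ H)
    (h : g none = none) : ∃ σ ∈ infStab H, g = extendHom σ := by
  have e := Equiv.Perm.decomposeOption.symm_apply_apply g
  refine ⟨removeNone g, ?_, ?_⟩
  · rw [mem_infStab]
    convert hg using 1
    rw [Equiv.Perm.decomposeOption_apply, h, Equiv.Perm.decomposeOption_symm_apply, Equiv.swap_self] at e
    exact e
  · rw [Equiv.Perm.decomposeOption_apply, h, Equiv.Perm.decomposeOption_symm_apply, Equiv.swap_self] at e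
    exact e.symm

structure LineHyp (H : Subgroup (Perm (Option (ZMod p)))) : Prop where
  trans : ∀ b, Equiv.addRight b ∈ infStab H
  scale : ∀ (a : ZMod p) (ha : a * a ≠ 0), Equiv.mulLeft₀ (a * a) ha ∈ infStab H
  inv : lineInv ∈ H
  nonaff : ∃ σ ∈ infStab H, ¬ IsAffineMap (σ : ZMod p → ZMod p)

variable {H : Subgroup (Perm (Option (ZMod p)))}

theorem LineHyp.invStable (hH : LineHyp H) : InvStable (infStab H) := by
  intro σ hσ h0
  have hmem : lineInv * extendHom σ * lineInv ∈ H := H.mul_mem (H.mul_mem hH.inv hσ) hH.inv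
  have hnone : (lineInv * extendHom σ * lineInv : Perm (Option (ZMod p))) none = none := by
    simp [h0]
  obtain ⟨τ, hτ, e⟩ := exists_infStab hmem hnone
  refine ⟨τ, hτ, fun x => Option.some_injective _ ?_⟩
  rw [← extendHom_some, ← e]
  by_cases hx : x = 0
  · subst hx
    simp [h0]
  · have hs : σ (-x⁻¹) ≠ 0 := fun h => hx (by simpa using σ.injective (h.trans h0.symm))
    simp [lineInv_some hx, lineInv_some hs]

theorem LineHyp.full_kernel (hH : LineHyp H) {P : ZMod p → ZMod p → Prop} (K : ZMod p → ZMod p → ZMod p → ZMod p)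
    (hP : ∀ σ ∈ infStab H, ∀ x y, P x y → P (σ x) (σ y))
    (heq : ∀ σ ∈ infStab H, ∀ x y, P x y → ∀ z, K (σ x) (σ y) (σ z) = K x y z)
    (h0 : ∀ x y, P x y → ∑ z, K x y z = 0) (h1 : ∀ x y, P x y → ∑ z, K x y z * z = 0)
    {x y : ZMod p} (hxy : P x y) (z z' : ZMod p) : K x y z = K x y z' :=
  kernel_invariant hH.trans hH.invStable hH.nonaff K hP heq h0 h1 hxy z z'

theorem LineHyp.scale_add (hH : LineHyp H) {a : ZMod p} (ha : a ≠ 0) (b : ZMod p) :
    ∃ σ ∈ infStab H, ∀ x, σ x = a * a * x + b :=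
  ⟨Equiv.addRight b * Equiv.mulLeft₀ (a * a) (mul_ne_zero ha ha),
    (infStab H).mul_mem (hH.trans b) (hH.scale a _), fun x => by simp⟩

/-- A sum over the nonzero squares vanishes. -/
theorem sum_sq_eq_zero (hp : 3 < p) :
    ∑ z : ZMod p, (open scoped Classical in if z ≠ 0 ∧ IsSquare z then z else 0) = 0 := by
  classical
  set f : ZMod p → ZMod p := fun z => if z ≠ 0 ∧ IsSquare z then z else 0
  have h4 : (4 : ZMod p) ≠ 0 := by
    rw [show (4 : ZMod p) = ((4 : ℕ) : ZMod p) by norm_num, Ne, ZMod.natCast_eq_zero_iff]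
    intro h
    have := (Nat.prime_dvd_prime_iff_eq Fact.out Nat.prime_two).1
      ((Fact.out (p := p.Prime)).dvd_of_dvd_pow (show p ∣ 2 ^ 2 from h))
    omega
  have h3 : (3 : ZMod p) ≠ 0 := by
    rw [show (3 : ZMod p) = ((3 : ℕ) : ZMod p) by norm_num, Ne, ZMod.natCast_eq_zero_iff]
    exact fun h => absurd (Nat.le_of_dvd (by norm_num) h) (by omega)
  have hf : ∀ z, f (4 * z) = 4 * f z := by
    intro z
    have hiff : (4 * z ≠ 0 ∧ IsSquare (4 * z)) ↔ (z ≠ 0 ∧ IsSquare z) := by
      refine ⟨fun ⟨h, hs⟩ => ⟨right_ne_zero_of_mul h, ?_⟩, fun ⟨h, hs⟩ =>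
        ⟨mul_ne_zero h4 h, (show IsSquare (4 : ZMod p) from ⟨2, by norm_num⟩).mul hs⟩⟩
      have := (show IsSquare (4 : ZMod p) from ⟨2, by norm_num⟩).inv.mul hs
      rwa [← mul_assoc, inv_mul_cancel₀ h4, one_mul] at this
    by_cases h : z ≠ 0 ∧ IsSquare z
    · simp only [f, if_pos h, if_pos (hiff.2 h)]
    · simp only [f, if_neg h, if_neg (fun h' => h (hiff.1 h')), mul_zero]
  have h : ∑ z, f z = 4 * ∑ z, f z := by
    rw [Finset.mul_sum, ← Equiv.sum_comp (Equiv.mulLeft₀ (4 : ZMod p) h4) f]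
    exact Finset.sum_congr rfl fun z _ => hf z
  exact (mul_eq_zero.1 (show (3 : ZMod p) * ∑ z, f z = 0 by linear_combination -h)).resolve_left h3

/-- The stabiliser of infinity is doubly transitive. -/
theorem LineHyp.two_trans (hH : LineHyp H) (hp : 3 < p) {a b c d : ZMod p} (hab : a ≠ b) (hcd : c ≠ d) :
    ∃ σ ∈ infStab H, σ a = c ∧ σ b = d := by
  classical
  have sc : ∀ x y : ZMod p, x ≠ y → IsSquare (y - x) → ∃ σ ∈ infStab H, σ 0 = x ∧ σ 1 = y := by
    rintro x y hxy ⟨e, he⟩
    have he0 : e ≠ 0 := by rintro rfl; exact hxy (sub_eq_zero.1 (by simpa using he)).symm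
    obtain ⟨σ, hσ, hs⟩ := hH.scale_add he0 x
    exact ⟨σ, hσ, by simp [hs], by rw [hs, ← he]; ring⟩
  obtain ⟨σ₁, hσ₁, hns⟩ : ∃ σ ∈ infStab H, ¬ IsSquare (σ 1 - σ 0) := by
    by_contra hall
    push Not at hall
    have hpres : ∀ σ ∈ infStab H, ∀ x z : ZMod p, z ≠ x → IsSquare (z - x) → IsSquare (σ z - σ x) := by
      intro σ hσ x z hne hsq
      obtain ⟨τ, hτ, t0, t1⟩ := sc x z hne.symm hsq
      have := hall (σ * τ) ((infStab H).mul_mem hσ hτ)
      rwa [Perm.mul_apply, Perm.mul_apply, t0, t1] at this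
    let A : ZMod p → ZMod p → ZMod p := fun x z => if z - x ≠ 0 ∧ IsSquare (z - x) then 1 else 0
    let N : ZMod p := ∑ z, A 0 z
    let K : ZMod p → ZMod p → ZMod p → ZMod p := fun x _ z => A x z - (if z = x then N else 0)
    have hAshift : ∀ x u, A x (u + x) = A 0 u := fun x u => by simp [A]
    have hsum : ∀ x, ∑ z, A x z = N := fun x => by
      rw [← Equiv.sum_comp (Equiv.addRight x)]
      exact Finset.sum_congr rfl fun u _ => hAshift x u
    have hsum1 : ∀ x, ∑ z, A x z * z = N * x := fun x => by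
      rw [← Equiv.sum_comp (Equiv.addRight x), Finset.sum_congr rfl fun u _ =>
        show A x (Equiv.addRight x u) * Equiv.addRight x u = A 0 u * u + A 0 u * x by
          simp [hAshift, mul_add], Finset.sum_add_distrib, ← Finset.sum_mul]
      have h0 : ∑ u, A 0 u * u = 0 := by
        refine Eq.trans (Finset.sum_congr rfl fun u _ => ?_) (sum_sq_eq_zero hp)
        simp [A]
      rw [h0, zero_add]
    have hA : ∀ σ ∈ infStab H, ∀ x z, A (σ x) (σ z) = A x z := by
      intro σ hσ x z
      refine if_congr ?_ rfl rfl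
      constructor
      · rintro ⟨h, hs⟩
        have := hpres σ⁻¹ ((infStab H).inv_mem hσ) _ _ (sub_ne_zero.1 h) hs
        rw [show σ⁻¹ (σ z) = z from σ.symm_apply_apply z, show σ⁻¹ (σ x) = x from σ.symm_apply_apply x] at this
        exact ⟨sub_ne_zero.2 fun h' => h (by rw [h', sub_self]), this⟩
      · rintro ⟨h, hs⟩
        exact ⟨sub_ne_zero.2 fun h' => h (sub_eq_zero.2 (σ.injective h')), hpres σ hσ _ _ (sub_ne_zero.1 h) hs⟩
    obtain ⟨n, hn⟩ := FiniteField.exists_nonsquare (F := ZMod p) (by rw [ZMod.ringChar_zmod_n]; omega)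
    have hn0 : n ≠ 0 := by rintro rfl; exact hn IsSquare.zero
    have hconst := hH.full_kernel (P := fun _ _ => True) K (fun _ _ _ _ _ => trivial)
      (fun σ hσ x y _ z => by simp only [K, hA σ hσ, σ.injective.eq_iff])
      (fun x _ _ => by simp [K, Finset.sum_sub_distrib, hsum])
      (fun x _ _ => by simp [K, sub_mul, Finset.sum_sub_distrib, hsum1])
      (x := 0) (y := 0) trivial 1 n
    simp [K, A, hn, hn0] at hconst
  have hne01 : σ₁ 0 ≠ σ₁ 1 := fun h => zero_ne_one (σ₁.injective h)
  have reach : ∀ x y : ZMod p, x ≠ y → ∃ σ ∈ infStab H, σ 0 = x ∧ σ 1 = y := by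
    intro x y hxy
    by_cases hsq : IsSquare (y - x)
    · exact sc x y hxy hsq
    · set u := σ₁ 1 - σ₁ 0 with hu
      have hu0 : u ≠ 0 := sub_ne_zero.2 hne01.symm
      obtain ⟨e, he⟩ : IsSquare ((y - x) * u⁻¹) := by
        have h1 := quadraticChar_neg_one_iff_not_isSquare.2 hsq
        have h2 := quadraticChar_neg_one_iff_not_isSquare.2 (show ¬ IsSquare u⁻¹ from
          fun h => hns (by simpa using h.inv))
        refine (quadraticChar_one_iff_isSquare (mul_ne_zero (sub_ne_zero.2 hxy.symm) (inv_ne_zero hu0))).1 ?_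
        rw [map_mul, h1, h2]; norm_num
      have he0 : e ≠ 0 := by
        rintro rfl
        exact mul_ne_zero (sub_ne_zero.2 hxy.symm) (inv_ne_zero hu0) (by simpa using he)
      have heu : e * e * u = y - x := by rw [← he, mul_assoc, inv_mul_cancel₀ hu0, mul_one]
      obtain ⟨τ, hτ, ht⟩ := hH.scale_add he0 (x - e * e * σ₁ 0)
      refine ⟨τ * σ₁, (infStab H).mul_mem hτ hσ₁, by rw [Perm.mul_apply, ht]; ring, ?_⟩
      rw [Perm.mul_apply, ht]
      linear_combination heu + e * e * hu
  obtain ⟨σ, hσ, s0, s1⟩ := reach a b hab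
  obtain ⟨τ, hτ, t0, t1⟩ := reach c d hcd
  exact ⟨τ * σ⁻¹, (infStab H).mul_mem hτ ((infStab H).inv_mem hσ),
    by rw [Perm.mul_apply, Perm.inv_eq_iff_eq.2 s0.symm, t0],
    by rw [Perm.mul_apply, Perm.inv_eq_iff_eq.2 s1.symm, t1]⟩

end CfsgLib.Recog.EvenOverPSL
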