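import Mathlib

/-!
Spaces of functions on `ZMod p` invariant under a permutation group which contains the translations and is
stable under conjugation by `x ↦ -1/x`: unless the group is affine, such a space containing the constants and
the identity contains every polynomial function of degree at most `p - 2`.
-/

set_option autoImplicit false

open Polynomial

namespace CfsgLib.Recog.EvenOverPSL

variable {p : ℕ} [Fact p.Prime]

/-- A function given by a polynomial of bounded degree. -/
def DegLE (d : ℕ) (f : ZMod p → ZMod p) : Prop :=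
  ∃ Q : (ZMod p)[X], Q.natDegree ≤ d ∧ ∀ x, Q.eval x = f x

theorem DegLE.mono {d e : ℕ} {f : ZMod p → ZMod p} (h : DegLE d f) (hde : d ≤ e) : DegLE e f := by
  obtain ⟨Q, h1, h2⟩ := h
  exact ⟨Q, h1.trans hde, h2⟩

theorem exists_poly (f : ZMod p → ZMod p) : DegLE (p - 1) f := by
  classical
  refine ⟨Lagrange.interpolate Finset.univ id f, ?_, fun x => Lagrange.eval_interpolate_at_node f
    Function.injective_id.injOn (Finset.mem_univ x)⟩
  have h := Lagrange.degree_interpolate_lt (s := (Finset.univ : Finset (ZMod p))) (v := id) f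
    Function.injective_id.injOn
  rw [Finset.card_univ, ZMod.card] at h
  by_cases h0 : Lagrange.interpolate Finset.univ id f = 0
  · rw [h0, natDegree_zero]; omega
  · rw [degree_eq_natDegree h0, Nat.cast_lt] at h
    omega

theorem poly_unique {P Q : (ZMod p)[X]} (hP : P.natDegree < p) (hQ : Q.natDegree < p)
    (h : ∀ x, P.eval x = Q.eval x) : P = Q := by
  refine sub_eq_zero.1 (eq_zero_of_natDegree_lt_card_of_eval_eq_zero (P - Q) (f := id)
    Function.injective_id (fun x => by simp [h]) ?_)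
  rw [ZMod.card]
  exact lt_of_le_of_lt (natDegree_sub_le _ _) (max_lt hP hQ)

/-- The sum of the values of a short polynomial. -/
theorem sum_eval {Q : (ZMod p)[X]} (hQ : Q.natDegree ≤ p - 1) :
    ∑ x : ZMod p, Q.eval x = -Q.coeff (p - 1) := by
  classical
  have hp : p.Prime := Fact.out
  rw [Finset.sum_congr rfl fun x _ => eval_eq_sum_range' (n := p) (by have := hp.two_le; omega) x,
    Finset.sum_comm]
  simp_rw [← Finset.mul_sum]
  rw [Finset.sum_eq_single (p - 1)]
  · have h : ∑ x : ZMod p, x ^ (p - 1) = -1 := by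
      rw [← Finset.add_sum_erase _ _ (Finset.mem_univ (0 : ZMod p)),
        zero_pow (by have := hp.two_le; omega), zero_add, Finset.sum_congr rfl fun x hx =>
          ZMod.pow_card_sub_one_eq_one (Finset.ne_of_mem_erase hx), Finset.sum_const, nsmul_one,
        Finset.card_erase_of_mem (Finset.mem_univ _), Finset.card_univ, ZMod.card,
        Nat.cast_sub hp.one_le, ZMod.natCast_self, Nat.cast_one, zero_sub]
    rw [h, mul_neg_one]
  · intro i hi hne
    rw [FiniteField.sum_pow_lt_card_sub_one (ZMod p) i (by rw [ZMod.card]; have := Finset.mem_range.1 hi; omega),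
      mul_zero]
  · intro h
    exact absurd (Finset.mem_range.2 (by have := hp.two_le; omega)) h

/-- A function orthogonal to the short powers is short. -/
theorem degLE_of_orth {f : ZMod p → ZMod p} {d : ℕ} (hd : d ≤ p - 1)
    (h : ∀ i ≤ d, ∑ x, f x * x ^ i = 0) : DegLE (p - 2 - d) f := by
  obtain ⟨Q, hQ, hev⟩ := exists_poly f
  refine ⟨Q, ?_, hev⟩
  by_contra hlt
  push Not at hlt
  have hj : p - 1 - Q.natDegree ≤ d := by omega
  have h0 := h _ hj
  have hdeg : (Q * X ^ (p - 1 - Q.natDegree)).natDegree ≤ p - 1 := by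
    refine natDegree_mul_le.trans ?_
    rw [natDegree_X_pow]
    omega
  rw [Finset.sum_congr rfl fun x _ => show f x * x ^ (p - 1 - Q.natDegree) =
    (Q * X ^ (p - 1 - Q.natDegree)).eval x by simp [hev], sum_eval hdeg] at h0
  rw [neg_eq_zero, show (p - 1 : ℕ) = Q.natDegree + (p - 1 - Q.natDegree) by omega] at h0
  simp only [Nat.add_sub_cancel_left, coeff_mul_X_pow, coeff_natDegree, leadingCoeff_eq_zero] at h0
  rw [h0, natDegree_zero] at hlt
  omega

/-- A kernel killing every short polynomial function is constant. -/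
theorem kernel_const {K : ZMod p → ZMod p}
    (h : ∀ f, DegLE (p - 2) f → ∑ z, K z * f z = 0) (x y : ZMod p) : K x = K y := by
  have hp : p.Prime := Fact.out
  obtain ⟨Q, hQ, hev⟩ := degLE_of_orth (f := K) (d := p - 2) (by omega)
    fun i hi => h _ ⟨X ^ i, by rw [natDegree_X_pow]; exact hi, fun z => by simp⟩
  obtain ⟨c, rfl⟩ := natDegree_eq_zero.1 (by omega : Q.natDegree = 0)
  rw [← hev x, ← hev y, eval_C, eval_C]

/-! ### Invariant spaces -/

/-- A space closed under the translations contains the powers below the degree of each member. -/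
theorem pow_mem {V : Submodule (ZMod p) (ZMod p → ZMod p)} (hV : ∀ b : ZMod p, ∀ f ∈ V, (fun x => f (x + b)) ∈ V)
    (h1 : (fun _ => (1 : ZMod p)) ∈ V) :
    ∀ (d : ℕ) (Q : (ZMod p)[X]), Q.natDegree = d → d < p → (fun x => Q.eval x) ∈ V →
      ∀ i ≤ d, (fun x : ZMod p => x ^ i) ∈ V := by
  intro d
  induction d using Nat.strong_induction_on with
  | _ d ih =>
  intro Q hQ hdp hmem i hi
  rcases Nat.eq_zero_or_pos d with rfl | hd
  · rw [Nat.le_zero.1 hi]; simpa using h1
  have hd0 : ((d : ℕ) : ZMod p) ≠ 0 := by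
    rw [Ne, ZMod.natCast_eq_zero_iff]
    exact fun h => absurd (Nat.le_of_dvd hd h) (by omega)
  have hlc : Q.coeff d ≠ 0 := by
    rw [← hQ, coeff_natDegree, Ne, leadingCoeff_eq_zero]
    rintro rfl
    rw [natDegree_zero] at hQ
    omega
  set R := taylor 1 Q - Q with hR
  have htop : R.coeff d = 0 := by
    rw [hR, coeff_sub, sub_eq_zero]
    conv_lhs => rw [← hQ, ← natDegree_taylor Q (1 : ZMod p), coeff_natDegree, leadingCoeff_taylor]
    rw [← hQ, coeff_natDegree]
  have hle : R.natDegree ≤ d - 1 := by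
    refine natDegree_le_iff_coeff_eq_zero.2 fun N hN => ?_
    rcases (show d ≤ N by omega).eq_or_lt with rfl | hlt
    · exact htop
    · rw [hR, coeff_sub, coeff_eq_zero_of_natDegree_lt (by rw [natDegree_taylor, hQ]; exact hlt),
        coeff_eq_zero_of_natDegree_lt (by rw [hQ]; exact hlt), sub_zero]
  have hc : R.coeff (d - 1) ≠ 0 := by
    rw [hR, coeff_sub, taylor_coeff, eval_eq_sum_range' (n := 2) ?_ (1 : ZMod p)]
    · rw [Finset.sum_range_succ, Finset.sum_range_one]
      simp only [hasseDeriv_coeff, zero_add, pow_zero, mul_one, Nat.choose_self, Nat.cast_one, one_mul,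
        one_pow]
      rw [show 1 + (d - 1) = d by omega, add_sub_cancel_left,
        Nat.choose_symm_of_eq_add (show d = (d - 1) + 1 by omega), Nat.choose_one_right]
      exact mul_ne_zero hd0 hlc
    · exact lt_of_le_of_lt (natDegree_hasseDeriv_le Q _) (by rw [hQ]; omega)
  have hRd : R.natDegree = d - 1 := le_antisymm hle (le_natDegree_of_ne_zero hc)
  have hRmem : (fun x => R.eval x) ∈ V := by
    have h := V.sub_mem (hV 1 _ hmem) hmem
    rw [show (fun x => R.eval x) = (fun x => Q.eval (x + 1)) - fun x => Q.eval x by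
      funext x; simp [hR, taylor_eval]]
    exact h
  have hlow : ∀ j ≤ d - 1, (fun x : ZMod p => x ^ j) ∈ V :=
    ih (d - 1) (by omega) R hRd (by omega) hRmem
  rcases hi.eq_or_lt with rfl | hlt
  · have hsum : (fun x => Q.eval x) = (∑ j ∈ Finset.range i, Q.coeff j • fun x : ZMod p => x ^ j) +
        Q.coeff i • fun x : ZMod p => x ^ i := by
      funext x
      rw [eval_eq_sum_range' (n := i + 1) (by omega) x, Finset.sum_range_succ]
      simp [Finset.sum_apply]
    have hrest : (∑ j ∈ Finset.range i, Q.coeff j • fun x : ZMod p => x ^ j) ∈ V :=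
      V.sum_mem fun j hj => V.smul_mem _ (hlow j (by have := Finset.mem_range.1 hj; omega))
    rw [hsum] at hmem
    have h2 := (V.add_mem_iff_right hrest).1 hmem
    exact (Submodule.smul_mem_iff _ hlc).1 h2
  · exact hlow i (by omega)

theorem degLE_mem {V : Submodule (ZMod p) (ZMod p → ZMod p)} {d : ℕ}
    (h : ∀ i ≤ d, (fun x : ZMod p => x ^ i) ∈ V) {f : ZMod p → ZMod p} (hf : DegLE d f) : f ∈ V := by
  obtain ⟨Q, hQ, hev⟩ := hf
  have : f = ∑ j ∈ Finset.range (d + 1), Q.coeff j • fun x : ZMod p => x ^ j := by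
    funext x
    rw [← hev, eval_eq_sum_range' (n := d + 1) (by omega) x]
    simp [Finset.sum_apply]
  rw [this]
  exact V.sum_mem fun j hj => V.smul_mem _ (h j (by have := Finset.mem_range.1 hj; omega))

/-- The map `x ↦ a x + b`. -/
def IsAffineMap (f : ZMod p → ZMod p) : Prop := ∃ a b : ZMod p, ∀ x, f x = a * x + b

/-- The group is stable under conjugation by `x ↦ -1/x`. -/
def InvStable (G : Subgroup (Equiv.Perm (ZMod p))) : Prop :=
  ∀ σ ∈ G, σ 0 = 0 → ∃ τ ∈ G, ∀ x, τ x = -(σ (-x⁻¹))⁻¹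

/-- The reversed polynomial of `σ (-1/x)`. -/
theorem monomial_of_short {G : Subgroup (Equiv.Perm (ZMod p))} (hw : InvStable G) {d : ℕ}
    (hd : 2 * d ≤ p - 2) (hG : ∀ σ ∈ G, DegLE d (σ : ZMod p → ZMod p))
    {σ : Equiv.Perm (ZMod p)} (hσ : σ ∈ G) (h0 : σ 0 = 0) :
    ∃ (a : ZMod p) (j : ℕ), j ≤ d ∧ ∀ x, σ x = a * x ^ j := by
  classical
  have hp : p.Prime := Fact.out
  obtain ⟨τ, hτ, heq⟩ := hw σ hσ h0
  obtain ⟨Q, hQ, hQe⟩ := hG σ hσ
  obtain ⟨P, hP, hPe⟩ := hG τ hτ
  set R : (ZMod p)[X] := ∑ i ∈ Finset.range (d + 1), C (Q.coeff i * (-1) ^ i) * X ^ (d - i) with hR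
  have hRdeg : R.natDegree ≤ d := natDegree_sum_le_of_forall_le _ _ fun i _ =>
    (natDegree_C_mul_le _ _).trans (by rw [natDegree_X_pow]; omega)
  have hRev : ∀ x : ZMod p, x ≠ 0 → R.eval x = x ^ d * σ (-x⁻¹) := by
    intro x hx
    rw [← hQe, eval_eq_sum_range' (p := Q) (n := d + 1) (by omega), Finset.mul_sum, hR, eval_finsetSum]
    refine Finset.sum_congr rfl fun i hi => ?_
    have hid : i ≤ d := by have := Finset.mem_range.1 hi; omega
    simp only [eval_mul, eval_C, eval_pow, eval_X]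
    rw [neg_pow x⁻¹, inv_pow, pow_sub₀ _ hx hid]
    ring
  have hzero : P * R + X ^ d = 0 := by
    refine eq_zero_of_natDegree_lt_card_of_eval_eq_zero' _ ((Finset.univ : Finset (ZMod p)).erase 0)
      (fun x hx => ?_) ?_
    · have hx0 : x ≠ 0 := Finset.ne_of_mem_erase hx
      have hs : σ (-x⁻¹) ≠ 0 := fun h => hx0 (by
        have := σ.injective (h.trans h0.symm)
        simpa using this)
      rw [eval_add, eval_mul, eval_pow, eval_X, hPe, heq, hRev x hx0]
      linear_combination -(x ^ d) * inv_mul_cancel₀ hs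
    · rw [Finset.card_erase_of_mem (Finset.mem_univ _), Finset.card_univ, ZMod.card]
      refine lt_of_le_of_lt (natDegree_add_le _ _) (max_lt ?_ ?_)
      · refine lt_of_le_of_lt natDegree_mul_le ?_
        have := hp.two_le; omega
      · rw [natDegree_X_pow]; have := hp.two_le; omega
  have hdvd : R ∣ X ^ d := ⟨-P, by linear_combination hzero⟩
  obtain ⟨k, hk, u, hu⟩ := (dvd_prime_pow prime_X d).1 hdvd
  obtain ⟨c, hc, hcu⟩ := Polynomial.isUnit_iff.1 u⁻¹.isUnit
  have hRmon : R = C c * X ^ k := by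
    rw [← hu, hcu]
    rw [mul_comm R, ← mul_assoc, Units.inv_mul, one_mul]
  refine ⟨Q.coeff (d - k), d - k, by omega, fun x => ?_⟩
  rw [← hQe, eval_eq_sum_range' (n := d + 1) (by omega), Finset.sum_eq_single (d - k)]
  · intro i hi hne
    have hid : i ≤ d := by have := Finset.mem_range.1 hi; omega
    have h1 : R.coeff (d - i) = Q.coeff i * (-1) ^ i := by
      rw [hR, finsetSum_coeff, Finset.sum_eq_single i]
      · rw [coeff_C_mul, coeff_X_pow, if_pos rfl, mul_one]
      · intro j hj hji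
        rw [coeff_C_mul, coeff_X_pow, if_neg (by have := Finset.mem_range.1 hj; omega), mul_zero]
      · intro h; exact absurd hi h
    rw [hRmon, coeff_C_mul, coeff_X_pow, if_neg (by omega), mul_zero, eq_comm, mul_eq_zero] at h1
    rcases h1 with h1 | h1
    · simp [h1]
    · exact absurd h1 (pow_ne_zero _ (neg_ne_zero.2 one_ne_zero))
  · intro h
    exact absurd (Finset.mem_range.2 (by omega)) h

theorem affine_of_short {G : Subgroup (Equiv.Perm (ZMod p))} (ht : ∀ b, Equiv.addRight b ∈ G)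
    (hw : InvStable G) {d : ℕ} (hd : 2 * d ≤ p - 2)
    (hG : ∀ σ ∈ G, DegLE d (σ : ZMod p → ZMod p)) {σ : Equiv.Perm (ZMod p)} (hσ : σ ∈ G) :
    IsAffineMap (σ : ZMod p → ZMod p) := by
  classical
  have hp : p.Prime := Fact.out
  have shift : ∀ ρ ∈ G, ∀ b : ZMod p, ∃ ρ' ∈ G, ∀ x, ρ' x = ρ (x + b) - ρ b := fun ρ hρ b =>
    ⟨Equiv.addRight (-(ρ b)) * (ρ * Equiv.addRight b), G.mul_mem (ht _) (G.mul_mem hρ (ht b)),
      fun x => by simp [sub_eq_add_neg]⟩
  obtain ⟨ρ, hρ, hρe⟩ := shift σ hσ 0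
  obtain ⟨a, j, hj, haj⟩ := monomial_of_short hw hd hG hρ (by simp [hρe])
  rcases Nat.lt_or_ge j 2 with h | h
  · refine ⟨if j = 1 then a else 0, σ 0 + if j = 1 then 0 else a, fun x => ?_⟩
    have hx := haj x
    rw [hρe, add_zero, sub_eq_iff_eq_add] at hx
    interval_cases j <;> simp [hx] <;> ring
  · exfalso
    obtain ⟨θ, hθ, hθe⟩ := shift ρ hρ 1
    obtain ⟨c, i, hi, hci⟩ := monomial_of_short hw hd hG hθ (by simp [hθe])
    have heq : C a * ((X + 1) ^ j - 1) = C c * (X : (ZMod p)[X]) ^ i := by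
      refine poly_unique ?_ ?_ fun x => ?_
      · refine lt_of_le_of_lt ((natDegree_C_mul_le _ _).trans (natDegree_sub_le _ _)) (max_lt ?_ ?_)
        · refine lt_of_le_of_lt natDegree_pow_le ?_
          rw [← C_1, natDegree_X_add_C]
          have := hp.two_le; omega
        · rw [natDegree_one]; exact hp.pos
      · refine lt_of_le_of_lt (natDegree_C_mul_le _ _) ?_
        rw [natDegree_X_pow]; have := hp.two_le; omega
      · have hx := hci x
        rw [hθe, haj, haj, one_pow] at hx
        simp only [eval_mul, eval_C, eval_sub, eval_pow, eval_add, eval_X, eval_one, ← hx]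
        ring
    have ha : a ≠ 0 := by
      rintro rfl
      have h01 := ρ.injective (show ρ 1 = ρ 0 by rw [haj, haj, zero_mul, zero_mul])
      exact one_ne_zero h01
    have h1 := congrArg (fun P => coeff P 1) heq
    have h2 := congrArg (fun P => coeff P j) heq
    simp only [coeff_C_mul, coeff_sub, coeff_X_add_one_pow, coeff_X_pow, coeff_one,
      show (1 : ℕ) ≠ 0 by omega, show j ≠ 0 by omega, Nat.choose_one_right, Nat.choose_self, if_false,
      sub_zero, Nat.cast_one, mul_one] at h1 h2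
    have hj0 : ((j : ℕ) : ZMod p) ≠ 0 := by
      rw [Ne, ZMod.natCast_eq_zero_iff]
      exact fun hdv => absurd (Nat.le_of_dvd (by omega) hdv) (by omega)
    by_cases hi1 : 1 = i
    · rw [← hi1, if_neg (by omega), mul_zero] at h2
      exact ha h2
    · rw [if_neg hi1, mul_zero] at h1
      exact mul_ne_zero ha hj0 h1

/-- An invariant space with the constants and the identity contains all polynomials of degree `p - 2`. -/
theorem full_space {G : Subgroup (Equiv.Perm (ZMod p))} (ht : ∀ b, Equiv.addRight b ∈ G)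
    (hw : InvStable G) (hna : ∃ σ ∈ G, ¬ IsAffineMap (σ : ZMod p → ZMod p))
    (V : Submodule (ZMod p) (ZMod p → ZMod p)) (hV : ∀ σ ∈ G, ∀ f ∈ V, (fun x => f (σ x)) ∈ V)
    (h1 : (fun _ => (1 : ZMod p)) ∈ V) (hid : (fun x : ZMod p => x) ∈ V)
    {f : ZMod p → ZMod p} (hf : DegLE (p - 2) f) : f ∈ V := by
  classical
  have hp : p.Prime := Fact.out
  have htV : ∀ b : ZMod p, ∀ f ∈ V, (fun x => f (x + b)) ∈ V := fun b f hf => hV _ (ht b) f hf
  by_cases hbig : ∃ σ ∈ G, ¬ DegLE (p - 3) (σ : ZMod p → ZMod p)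
  · obtain ⟨σ, hσ, hnot⟩ := hbig
    obtain ⟨Q, hQ, hQe⟩ := exists_poly (σ : ZMod p → ZMod p)
    have hge : p - 2 ≤ Q.natDegree := by
      by_contra h
      exact hnot ⟨Q, by omega, hQe⟩
    have hmem : (fun x => Q.eval x) ∈ V := by
      rw [show (fun x => Q.eval x) = fun x => σ x from funext hQe]
      exact hV σ hσ _ hid
    exact degLE_mem (fun i hi => pow_mem htV h1 _ Q rfl (by have := hp.two_le; omega) hmem i (by omega)) hf
  · push Not at hbig
    exfalso
    obtain ⟨σ₁, hσ₁, hna⟩ := hna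
    let d := Nat.find (⟨p - 3, hbig⟩ : ∃ d, ∀ σ ∈ G, DegLE d (σ : ZMod p → ZMod p))
    have hd : ∀ σ ∈ G, DegLE d (σ : ZMod p → ZMod p) := Nat.find_spec
      (⟨p - 3, hbig⟩ : ∃ d, ∀ σ ∈ G, DegLE d (σ : ZMod p → ZMod p))
    have hdle : d ≤ p - 3 := Nat.find_min' _ hbig
    have hd1 : 1 ≤ d := by
      by_contra h
      obtain ⟨Q, hQ, hQe⟩ := hd σ₁ hσ₁
      obtain ⟨c, rfl⟩ := natDegree_eq_zero.1 (by omega : Q.natDegree = 0)
      exact hna ⟨0, c, fun x => by rw [← hQe, eval_C]; ring⟩
    obtain ⟨σ₀, hσ₀, hnd⟩ : ∃ σ ∈ G, ¬ DegLE (d - 1) (σ : ZMod p → ZMod p) := by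
      by_contra h
      push Not at h
      exact Nat.find_min _ (show d - 1 < d by omega) h
    let U : Submodule (ZMod p) (ZMod p → ZMod p) :=
      Submodule.span (ZMod p) ({fun _ => (1 : ZMod p)} ∪ {f | ∃ σ ∈ G, f = fun x => σ x})
    have hU : ∀ σ ∈ G, ∀ f ∈ U, (fun x => f (σ x)) ∈ U := by
      intro σ hσ f hf
      induction hf using Submodule.span_induction with
      | mem g hg =>
        rcases hg with hg | ⟨τ, hτ, rfl⟩
        · rw [Set.mem_singleton_iff.1 hg]
          exact Submodule.subset_span (Or.inl rfl)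
        · exact Submodule.subset_span (Or.inr ⟨τ * σ, G.mul_mem hτ hσ, rfl⟩)
      | zero => exact U.zero_mem
      | add g h _ _ ihg ihh => exact U.add_mem ihg ihh
      | smul c g _ ihg => exact U.smul_mem c ihg
    have hUbound : ∀ f ∈ U, DegLE d f := by
      intro f hf
      induction hf using Submodule.span_induction with
      | mem g hg =>
        rcases hg with hg | ⟨τ, hτ, rfl⟩
        · rw [Set.mem_singleton_iff.1 hg]
          exact ⟨1, by simp, fun x => by simp⟩
        · exact hd τ hτ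
      | zero => exact ⟨0, by simp, fun x => by simp⟩
      | add g h _ _ ihg ihh =>
        obtain ⟨P, h1, h2⟩ := ihg
        obtain ⟨Q, h3, h4⟩ := ihh
        exact ⟨P + Q, (natDegree_add_le _ _).trans (max_le h1 h3), fun x => by simp [h2, h4]⟩
      | smul c g _ ihg =>
        obtain ⟨P, h1, h2⟩ := ihg
        exact ⟨C c * P, (natDegree_C_mul_le _ _).trans h1, fun x => by simp [h2]⟩
    have hUpow : ∀ i ≤ d, (fun x : ZMod p => x ^ i) ∈ U := by
      obtain ⟨Q, hQ, hQe⟩ := hd σ₀ hσ₀
      have hdeg : Q.natDegree = d := by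
        by_contra h
        exact hnd ⟨Q, by omega, hQe⟩
      refine pow_mem (fun b f hf => hU _ (ht b) f hf) (Submodule.subset_span (Or.inl rfl)) d Q hdeg
        (by have := hp.two_le; omega) ?_
      rw [show (fun x => Q.eval x) = fun x => σ₀ x from funext hQe]
      exact Submodule.subset_span (Or.inr ⟨σ₀, hσ₀, rfl⟩)
    have hshort : ∀ σ ∈ G, DegLE (p - 2 - d) (σ : ZMod p → ZMod p) := by
      intro σ hσ
      refine degLE_of_orth (by omega) fun i hi => ?_
      have hmem := hU σ.symm (G.inv_mem hσ) _ (hUpow i hi)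
      obtain ⟨P, hP, hPe⟩ := hUbound _ hmem
      rw [← Equiv.sum_comp σ.symm (fun x => σ x * x ^ i),
        Finset.sum_congr rfl fun x _ => show σ (σ.symm x) * (σ.symm x) ^ i = (X * P).eval x by simp [hPe],
        sum_eval (natDegree_mul_le.trans (by rw [natDegree_X]; omega)),
        coeff_eq_zero_of_natDegree_lt (lt_of_le_of_lt natDegree_mul_le (by rw [natDegree_X]; omega)), neg_zero]
    have h2d : 2 * d ≤ p - 2 := by
      have := Nat.find_min' (⟨p - 3, hbig⟩ : ∃ d, ∀ σ ∈ G, DegLE d (σ : ZMod p → ZMod p)) hshort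
      omega
    exact hna (affine_of_short ht hw h2d hd hσ₁)

/-- An equivariant kernel killing the constants and the identity is constant. -/
theorem kernel_invariant {G : Subgroup (Equiv.Perm (ZMod p))} (ht : ∀ b, Equiv.addRight b ∈ G)
    (hw : InvStable G) (hna : ∃ σ ∈ G, ¬ IsAffineMap (σ : ZMod p → ZMod p))
    {P : ZMod p → ZMod p → Prop} (K : ZMod p → ZMod p → ZMod p → ZMod p)
    (hP : ∀ σ ∈ G, ∀ x y, P x y → P (σ x) (σ y))
    (heq : ∀ σ ∈ G, ∀ x y, P x y → ∀ z, K (σ x) (σ y) (σ z) = K x y z)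
    (h0 : ∀ x y, P x y → ∑ z, K x y z = 0) (h1 : ∀ x y, P x y → ∑ z, K x y z * z = 0)
    {x y : ZMod p} (hxy : P x y) (z z' : ZMod p) : K x y z = K x y z' := by
  let V : Submodule (ZMod p) (ZMod p → ZMod p) :=
    { carrier := {f | ∀ x y, P x y → ∑ z, K x y z * f z = 0}
      zero_mem' := fun x y _ => by simp
      add_mem' := fun {f g} hf hg x y h => by
        simp only [Pi.add_apply, mul_add, Finset.sum_add_distrib, hf x y h, hg x y h, add_zero]
      smul_mem' := fun c f hf x y h => by
        simp only [Pi.smul_apply, smul_eq_mul, mul_left_comm _ c, ← Finset.mul_sum, hf x y h, mul_zero] }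
  refine kernel_const (K := K x y) (fun f hf => ?_) z z'
  have hmem : f ∈ V := by
    refine full_space ht hw hna V (fun σ hσ g hg a b hab => ?_) (fun a b hab => ?_) (fun a b hab => h1 a b hab) hf
    · rw [← hg (σ a) (σ b) (hP σ hσ a b hab), ← Equiv.sum_comp σ (fun z => K (σ a) (σ b) z * g z)]
      exact Finset.sum_congr rfl fun z _ => by rw [heq σ hσ a b hab]
    · simpa using h0 a b hab
  exact hmem x y hxy

end CfsgLib.Recog.EvenOverPSL
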