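import Cfsg.Agent.Lib.Recog.EvenOverPSL.Orbits

/-!
The orbits of the pointwise stabiliser of three points: one orbit if `-1` is a square, at most two symmetric
orbits otherwise.
-/

set_option autoImplicit false

open Equiv
open scoped Classical

namespace CfsgLib.Recog.EvenOverPSL

variable {p : ℕ} [Fact p.Prime]

/-- `z` corresponds to `z₀` when `(x, y)` corresponds to `(0, 1)`. -/
def Reach (H : Subgroup (Perm (Option (ZMod p)))) (z₀ x y z : ZMod p) : Prop :=
  ∃ σ ∈ infStab H, σ 0 = x ∧ σ 1 = y ∧ σ z₀ = z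

/-- Indicator of `Reach`. -/
noncomputable def rInd (H : Subgroup (Perm (Option (ZMod p)))) (z₀ x y z : ZMod p) : ZMod p :=
  if Reach H z₀ x y z then 1 else 0

/-- Sum of the members of an orbit. -/
noncomputable def rSum (H : Subgroup (Perm (Option (ZMod p)))) (z₀ x y : ZMod p) : ZMod p :=
  ∑ z, rInd H z₀ x y z * z

variable {H : Subgroup (Perm (Option (ZMod p)))}

theorem reach_self {z₀ : ZMod p} : Reach H z₀ 0 1 z₀ := ⟨1, one_mem _, rfl, rfl, rfl⟩

theorem reach_map {z₀ x y z : ZMod p} {σ : Perm (ZMod p)} (hσ : σ ∈ infStab H) :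
    Reach H z₀ (σ x) (σ y) (σ z) ↔ Reach H z₀ x y z := by
  constructor
  · rintro ⟨τ, hτ, h0, h1, h2⟩
    exact ⟨σ⁻¹ * τ, (infStab H).mul_mem ((infStab H).inv_mem hσ) hτ,
      by rw [Perm.mul_apply, h0]; exact σ.symm_apply_apply x,
      by rw [Perm.mul_apply, h1]; exact σ.symm_apply_apply y,
      by rw [Perm.mul_apply, h2]; exact σ.symm_apply_apply z⟩
  · rintro ⟨τ, hτ, h0, h1, h2⟩
    exact ⟨σ * τ, (infStab H).mul_mem hσ hτ, by simp [h0], by simp [h1], by simp [h2]⟩

theorem reach_trans {z₀ z₁ x y z : ZMod p} (h : Reach H z₀ 0 1 z₁) (h' : Reach H z₁ x y z) :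
    Reach H z₀ x y z := by
  obtain ⟨σ, hσ, rfl, rfl, rfl⟩ := h'
  exact (reach_map hσ).2 h

theorem reach_symm {z₀ z₁ : ZMod p} (h : Reach H z₀ 0 1 z₁) : Reach H z₁ 0 1 z₀ := by
  obtain ⟨σ, hσ, h0, h1, h2⟩ := h
  exact ⟨σ⁻¹, (infStab H).inv_mem hσ, Perm.inv_eq_iff_eq.2 h0.symm, Perm.inv_eq_iff_eq.2 h1.symm,
    Perm.inv_eq_iff_eq.2 h2.symm⟩

theorem rInd_map {z₀ x y z : ZMod p} {σ : Perm (ZMod p)} (hσ : σ ∈ infStab H) :
    rInd H z₀ (σ x) (σ y) (σ z) = rInd H z₀ x y z := if_congr (reach_map hσ) rfl rfl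

theorem rInd_left {z₀ x y : ZMod p} (h0 : z₀ ≠ 0) : rInd H z₀ x y x = 0 :=
  if_neg fun ⟨σ, _, a, _, c⟩ => h0 (σ.injective (c.trans a.symm))

theorem rInd_right {z₀ x y : ZMod p} (h1 : z₀ ≠ 1) : rInd H z₀ x y y = 0 :=
  if_neg fun ⟨σ, _, _, b, c⟩ => h1 (σ.injective (c.trans b.symm))

theorem LineHyp.sum_rInd (hH : LineHyp H) (hp : 3 < p) (z₀ : ZMod p) {x y : ZMod p} (hxy : x ≠ y) :
    ∑ z, rInd H z₀ x y z = ∑ z, rInd H z₀ 0 1 z := by
  obtain ⟨σ, hσ, h0, h1⟩ := hH.two_trans hp zero_ne_one hxy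
  rw [← Equiv.sum_comp σ, ← h0, ← h1]
  exact Finset.sum_congr rfl fun z _ => rInd_map hσ

theorem LineHyp.rSum_affine (hH : LineHyp H) (hp : 3 < p) (z₀ : ZMod p) {x y : ZMod p} (hxy : x ≠ y)
    {a : ZMod p} (ha : a ≠ 0) (b : ZMod p) :
    rSum H z₀ (a * a * x + b) (a * a * y + b) =
      a * a * rSum H z₀ x y + b * ∑ z, rInd H z₀ 0 1 z := by
  obtain ⟨σ, hσ, hs⟩ := hH.scale_add ha b
  rw [← hs, ← hs, rSum, rSum, ← Equiv.sum_comp σ, ← hH.sum_rInd hp z₀ hxy, Finset.mul_sum, Finset.mul_sum,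
    ← Finset.sum_add_distrib]
  refine Finset.sum_congr rfl fun z _ => ?_
  rw [rInd_map hσ, hs]
  ring

theorem natCast_two_ne_zero (hp : 3 < p) : (2 : ZMod p) ≠ 0 := by
  rw [show (2 : ZMod p) = ((2 : ℕ) : ZMod p) by norm_num, Ne, ZMod.natCast_eq_zero_iff]
  exact fun h => absurd (Nat.le_of_dvd (by norm_num) h) (by omega)

/-- If `-1` is a square there is a single orbit. -/
theorem LineHyp.reach_of_isSquare (hH : LineHyp H) (hp : 3 < p) (hsq : IsSquare (-1 : ZMod p))
    {z₀ z : ZMod p} (h00 : z₀ ≠ 0) (h01 : z₀ ≠ 1) (hz0 : z ≠ 0) (hz1 : z ≠ 1) : Reach H z₀ 0 1 z := by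
  obtain ⟨i, hi⟩ := hsq
  have hi0 : i ≠ 0 := by rintro rfl; simp at hi
  set M : ZMod p := ∑ z, rInd H z₀ 0 1 z with hM
  let K : ZMod p → ZMod p → ZMod p → ZMod p := fun x y z => rInd H z₀ x y z + rInd H z₀ y x z -
    M * ((if z = x then 1 else 0) + (if z = y then 1 else 0))
  have hsum : ∀ x y, x ≠ y → rSum H z₀ x y + rSum H z₀ y x = M * (x + y) := by
    intro x y hxy
    have h := hH.rSum_affine hp z₀ hxy hi0 (x + y)
    rw [← hi, show (-1 : ZMod p) * x + (x + y) = y by ring, show (-1 : ZMod p) * y + (x + y) = x by ring] at h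
    rw [h, ← hM]; ring
  have hconst := hH.full_kernel (P := fun x y => x ≠ y) K (fun σ _ x y h => fun h' => h (σ.injective h'))
    (fun σ hσ x y _ z => by simp only [K, rInd_map hσ, σ.injective.eq_iff])
    (fun x y h => by
      simp only [K, Finset.sum_sub_distrib, Finset.sum_add_distrib, ← Finset.mul_sum, Finset.sum_ite_eq',
        Finset.mem_univ, if_true, hH.sum_rInd hp z₀ h, hH.sum_rInd hp z₀ (Ne.symm h), ← hM]
      ring)
    (fun x y h => by
      simp only [K, sub_mul, add_mul, mul_add, Finset.sum_sub_distrib, Finset.sum_add_distrib, mul_assoc,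
        ite_mul, one_mul, zero_mul, mul_ite, mul_zero, Finset.sum_ite_eq', Finset.mem_univ, if_true]
      have := hsum x y h
      rw [rSum, rSum] at this
      linear_combination this)
    (x := 0) (y := 1) zero_ne_one 0 z₀
  set D := Finset.univ.filter (fun w => Reach H z₀ 0 1 w) with hD
  have hMc : M = (D.card : ZMod p) := by rw [hM, hD]; simp only [rInd, Finset.sum_boole]
  have hsub : D ⊆ ((Finset.univ : Finset (ZMod p)).erase 0).erase 1 := by
    intro w hw
    obtain ⟨σ, hσ, a, b, c⟩ := (Finset.mem_filter.1 hw).2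
    exact Finset.mem_erase.2 ⟨fun h => h01 (σ.injective (by rw [c, b, h])),
      Finset.mem_erase.2 ⟨fun h => h00 (σ.injective (by rw [c, a, h])), Finset.mem_univ _⟩⟩
  have hcard : (((Finset.univ : Finset (ZMod p)).erase 0).erase 1).card = p - 2 := by
    rw [Finset.card_erase_of_mem (Finset.mem_erase.2 ⟨one_ne_zero, Finset.mem_univ _⟩),
      Finset.card_erase_of_mem (Finset.mem_univ _), Finset.card_univ, ZMod.card]
    omega
  obtain ⟨k, hk1, hk2, hk⟩ : ∃ k : ℕ, 1 ≤ k ∧ k ≤ 2 ∧ rInd H z₀ 0 1 z₀ + rInd H z₀ 1 0 z₀ = (k : ZMod p) := by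
    by_cases h : Reach H z₀ 1 0 z₀
    · exact ⟨2, by omega, le_rfl, by simp [rInd, reach_self, h]; norm_num⟩
    · exact ⟨1, le_rfl, by omega, by simp [rInd, reach_self, h]⟩
  simp only [K, rInd_left h00, rInd_right h01, if_true, if_neg h00, if_neg h01,
    if_neg (zero_ne_one (α := ZMod p)), add_zero, mul_zero, sub_zero, hk, hMc, zero_sub, mul_one] at hconst
  have hdvd : p ∣ D.card + k := by
    rw [← ZMod.natCast_eq_zero_iff, Nat.cast_add]
    linear_combination -hconst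
  have hle := Finset.card_le_card hsub
  have hge : p ≤ D.card + k := Nat.le_of_dvd (by omega) hdvd
  have heq : D = _ := Finset.eq_of_subset_of_card_le hsub (by omega)
  have : z ∈ D := by rw [heq]; simp [hz0, hz1]
  exact (Finset.mem_filter.1 this).2

theorem LineHyp.rSum_square (hH : LineHyp H) (hp : 3 < p) (z₀ : ZMod p) {x y : ZMod p} (hxy : x ≠ y)
    (hs : IsSquare (y - x)) :
    rSum H z₀ x y = x * (∑ z, rInd H z₀ 0 1 z) + (y - x) * rSum H z₀ 0 1 ∧
    rSum H z₀ y x = y * (∑ z, rInd H z₀ 0 1 z) + (y - x) * rSum H z₀ 0 (-1) := by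
  obtain ⟨e, he⟩ := hs
  have he0 : e ≠ 0 := by rintro rfl; exact hxy (sub_eq_zero.1 (by simpa using he)).symm
  have h1 := hH.rSum_affine hp z₀ (zero_ne_one (α := ZMod p)) he0 x
  have h2 := hH.rSum_affine hp z₀ (x := 0) (y := (-1 : ZMod p)) (by simp) he0 y
  rw [← he, mul_zero, zero_add, show (y - x) * 1 + x = y by ring] at h1
  rw [← he, mul_zero, zero_add, show (y - x) * -1 + y = x by ring] at h2
  exact ⟨by rw [h1]; ring, by rw [h2]; ring⟩

theorem isSquare_sub_or (hneg : ¬ IsSquare (-1 : ZMod p)) (x y : ZMod p) :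
    IsSquare (y - x) ∨ IsSquare (x - y) := by
  by_cases h : IsSquare (y - x)
  · exact Or.inl h
  · right
    have h0 : x - y ≠ 0 := fun h' => h (by rw [← neg_sub, h', neg_zero]; exact IsSquare.zero)
    rw [← quadraticChar_one_iff_isSquare h0, show x - y = -1 * (y - x) by ring, map_mul,
      quadraticChar_neg_one_iff_not_isSquare.2 hneg, quadraticChar_neg_one_iff_not_isSquare.2 h]
    norm_num

/-- If `-1` is not a square the orbits are symmetric. -/
theorem LineHyp.reach_swap (hH : LineHyp H) (hp : 3 < p) (hneg : ¬ IsSquare (-1 : ZMod p))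
    {z₀ : ZMod p} (h00 : z₀ ≠ 0) (h01 : z₀ ≠ 1) {x y : ZMod p} (hxy : x ≠ y) (z : ZMod p) :
    Reach H z₀ x y z ↔ Reach H z₀ y x z := by
  set M : ZMod p := ∑ z, rInd H z₀ 0 1 z with hM
  set c : ZMod p := rSum H z₀ 0 1 - rSum H z₀ 0 (-1) - M with hc
  have hdiff : ∀ x y, x ≠ y → rSum H z₀ x y - rSum H z₀ y x = c * (y - x) := by
    intro x y hxy
    rcases isSquare_sub_or hneg x y with hs | hs
    · obtain ⟨e1, e2⟩ := hH.rSum_square hp z₀ hxy hs
      rw [e1, e2, hc, ← hM]; ring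
    · obtain ⟨e1, e2⟩ := hH.rSum_square hp z₀ hxy.symm hs
      rw [e1, e2, hc, ← hM]; ring
  let K : ZMod p → ZMod p → ZMod p → ZMod p := fun x y z => rInd H z₀ x y z - rInd H z₀ y x z -
    c * ((if z = y then 1 else 0) - (if z = x then 1 else 0))
  have hconst := hH.full_kernel (P := fun x y => x ≠ y) K (fun σ _ x y h => fun h' => h (σ.injective h'))
    (fun σ hσ x y _ z => by simp only [K, rInd_map hσ, σ.injective.eq_iff])
    (fun x y h => by
      simp only [K, Finset.sum_sub_distrib, ← Finset.mul_sum, Finset.sum_ite_eq',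
        Finset.mem_univ, if_true, hH.sum_rInd hp z₀ h, hH.sum_rInd hp z₀ (Ne.symm h)]
      ring)
    (fun x y h => by
      simp only [K, sub_mul, mul_sub, Finset.sum_sub_distrib, mul_assoc,
        ite_mul, one_mul, zero_mul, mul_ite, mul_zero, Finset.sum_ite_eq', Finset.mem_univ, if_true]
      have := hdiff x y h
      rw [rSum, rSum] at this
      linear_combination this)
    hxy
  have hx := hconst x y
  simp only [K, rInd_left h00, rInd_right h01, if_true, if_neg hxy, if_neg hxy.symm] at hx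
  have hc0 : c = 0 := (mul_eq_zero.1 (show (2 : ZMod p) * c = 0 by linear_combination hx)).resolve_left
    (natCast_two_ne_zero hp)
  have hz := hconst z x
  simp only [K, rInd_left h00, rInd_right h01, hc0, zero_mul, sub_zero, sub_self, sub_eq_zero] at hz
  unfold rInd at hz
  split_ifs at hz with h1 h2 h3
  · exact iff_of_true h1 h2
  · exact absurd hz one_ne_zero
  · exact absurd hz zero_ne_one
  · exact iff_of_false h1 h3

/-- If `-1` is not a square there are at most two orbits. -/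
theorem LineHyp.reach_two_orbits (hH : LineHyp H) (hp : 3 < p) (hneg : ¬ IsSquare (-1 : ZMod p))
    {z₀ z₁ z₂ : ZMod p} (h00 : z₀ ≠ 0) (h01 : z₀ ≠ 1) (h10 : z₁ ≠ 0) (h11 : z₁ ≠ 1) (h20 : z₂ ≠ 0)
    (h21 : z₂ ≠ 1) : Reach H z₀ 0 1 z₁ ∨ Reach H z₀ 0 1 z₂ ∨ Reach H z₁ 0 1 z₂ := by
  by_contra hno
  push Not at hno
  obtain ⟨n01, n02, n12⟩ := hno
  let F : ZMod p → ZMod p → ZMod p → ZMod p → ZMod p := fun w x y z => 2 * rInd H w x y z -
    (∑ t, rInd H w 0 1 t) * ((if z = x then 1 else 0) + (if z = y then 1 else 0))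
  let g : ZMod p → ZMod p := fun w => 2 * rSum H w 0 1 - ∑ t, rInd H w 0 1 t
  let Φ : ZMod p → ZMod p → ZMod p := fun x y => if IsSquare (y - x) then y - x else x - y
  have hF0 : ∀ w x y, x ≠ y → ∑ z, F w x y z = 0 := by
    intro w x y h
    simp only [F, Finset.sum_sub_distrib, Finset.sum_add_distrib, ← Finset.mul_sum, Finset.sum_ite_eq',
      Finset.mem_univ, if_true, hH.sum_rInd hp w h]
    ring
  have hF1 : ∀ w, w ≠ 0 → w ≠ 1 → ∀ x y, x ≠ y → ∑ z, F w x y z * z = g w * Φ x y := by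
    intro w hw0 hw1 x y h
    have hsym : rSum H w x y = rSum H w y x := Finset.sum_congr rfl fun z _ => by
      rw [rInd, rInd, if_congr (hH.reach_swap hp hneg hw0 hw1 h z) rfl rfl]
    simp only [F, sub_mul, mul_add, add_mul, Finset.sum_sub_distrib, Finset.sum_add_distrib, mul_assoc,
      ite_mul, one_mul, zero_mul, mul_ite, mul_zero, Finset.sum_ite_eq', Finset.mem_univ, if_true,
      ← Finset.mul_sum]
    rw [← rSum]
    by_cases hs : IsSquare (y - x)
    · obtain ⟨e1, -⟩ := hH.rSum_square hp w h hs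
      simp only [g, Φ, if_pos hs, e1]; ring
    · obtain ⟨e1, -⟩ := hH.rSum_square hp w h.symm ((isSquare_sub_or hneg x y).resolve_left hs)
      simp only [g, Φ, if_neg hs, hsym, e1]; ring
  have hFmap : ∀ w, ∀ σ ∈ infStab H, ∀ x y z, F w (σ x) (σ y) (σ z) = F w x y z := fun w σ hσ x y z => by
    simp only [F, rInd_map hσ, σ.injective.eq_iff]
  have hFv : ∀ w z, z ≠ 0 → z ≠ 1 → F w 0 1 z = 2 * rInd H w 0 1 z := fun w z a b => by simp [F, a, b]
  have hself : ∀ w, rInd H w 0 1 w = 1 := fun w => if_pos reach_self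
  by_cases hg : g z₀ = 0
  · have h := hH.full_kernel (P := fun x y => x ≠ y) (F z₀) (fun σ _ x y h => fun h' => h (σ.injective h'))
      (fun σ hσ x y _ z => hFmap z₀ σ hσ x y z) (fun x y h => hF0 z₀ x y h)
      (fun x y h => by rw [hF1 z₀ h00 h01 x y h, hg, zero_mul]) (x := 0) (y := 1) zero_ne_one z₀ z₁
    rw [hFv _ _ h00 h01, hFv _ _ h10 h11, hself, rInd, if_neg n01, mul_one, mul_zero] at h
    exact natCast_two_ne_zero hp h
  · have h := hH.full_kernel (P := fun x y => x ≠ y) (fun x y z => g z₁ * F z₀ x y z - g z₀ * F z₁ x y z)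
      (fun σ _ x y h => fun h' => h (σ.injective h'))
      (fun σ hσ x y _ z => by simp only [hFmap _ σ hσ])
      (fun x y h => by simp only [Finset.sum_sub_distrib, ← Finset.mul_sum, hF0 _ x y h]; ring)
      (fun x y h => by
        simp only [sub_mul, mul_assoc, Finset.sum_sub_distrib, ← Finset.mul_sum, hF1 z₀ h00 h01 x y h,
          hF1 z₁ h10 h11 x y h]
        ring) (x := 0) (y := 1) zero_ne_one z₁ z₂
    rw [hFv _ _ h10 h11, hFv _ _ h10 h11, hFv _ _ h20 h21, hFv _ _ h20 h21, hself, rInd, rInd, rInd, if_neg n01,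
      if_neg n02, if_neg n12] at h
    exact mul_ne_zero hg (natCast_two_ne_zero hp) (by linear_combination -h)

end CfsgLib.Recog.EvenOverPSL
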